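import Mathlib

/-!
A simple group of order 126000 with an action like that of `PSU₃(5)` on the isotropic points
has no proper subgroup of index less than 50.
-/

set_option autoImplicit false

namespace CfsgLib.KnownSimple.UThreeFive

open MulAction Subgroup

set_option synthInstance.maxSize 5000 in
theorem orbit_arith : ∀ d < 50, ∀ o < 127, (d ∣ 126000 ∧ o ≠ 0 ∧ o ∣ 126000 / d ∧
    126000 / d / o ∣ 1000 ∧ (5 ∣ 126000 / d → 5 ∣ o - 1) ∧ (25 ∣ 126000 / d → 25 ∣ o - 1) ∧
    (125 ∣ 126000 / d → 125 ∣ o - 1)) → o = 126 := by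
  decide +kernel

variable {G Ω : Type*} [Group G] [Finite G] [MulAction G Ω] [Finite Ω]

/-- The hypotheses satisfied by `PSU₃(5)` on its isotropic points. -/
structure UPoints (G Ω : Type*) [Group G] [MulAction G Ω] : Prop where
  card_group : Nat.card G = 126000
  simple : IsSimpleGroup G
  card_points : Nat.card Ω = 126
  trans : IsPretransitive G Ω
  uniq : ∀ x : G, x ^ 125 = 1 → x ≠ 1 → ∀ u v : Ω, x • u = u → x • v = v → u = v
  inv_comm : ∀ t r : G, orderOf t = 2 → orderOf r = 5 → t * r = r * t →
    ∀ (u : Ω) (x : G), r • u = u → x • u = u → x ^ 125 = 1 → x * r = r * x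
  nonabelian : ∃ (u : Ω) (x y : G), x • u = u ∧ y • u = u ∧ x ^ 125 = 1 ∧ y ^ 125 = 1 ∧ x * y ≠ y * x

namespace UPoints

variable (h : UPoints G Ω)
include h

omit [Finite G] in
theorem card_stab (u : Ω) : Nat.card (stabilizer G u) = 1000 := by
  have := h.trans
  have h1 := (stabilizer G u).card_mul_index
  rw [index_stabilizer_of_transitive, h.card_points, h.card_group] at h1
  omega

/-- the unique Sylow 5-subgroup of a point stabilizer -/
theorem exists_sylow (u : Ω) : ∃ P : Subgroup G, P ≤ stabilizer G u ∧ Nat.card P = 125 ∧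
    ∀ x : G, x • u = u → x ^ 125 = 1 → x ∈ P := by
  have : Fact (Nat.Prime 5) := ⟨by norm_num⟩
  let S : Subgroup G := stabilizer G u
  let Q : Sylow 5 S := default
  have hc : Nat.card Q = 125 := by
    rw [Q.card_eq_multiplicity, h.card_stab u, show (1000 : ℕ) = 8 * 5 ^ 3 by norm_num,
      Nat.factorization_mul (by norm_num) (by norm_num), Finsupp.add_apply,
      Nat.factorization_eq_zero_of_not_dvd (by norm_num : ¬ 5 ∣ 8), Nat.factorization_pow,
      Nat.Prime.factorization (by norm_num : Nat.Prime 5)]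
    simp
  have hidx : (Q : Subgroup S).index = 8 := by
    have h1 := (Q : Subgroup S).card_mul_index
    rw [h.card_stab u, show Nat.card (Q : Subgroup S) = 125 from hc] at h1
    omega
  have hn1 : Nat.card (Sylow 5 S) = 1 := by
    have hd : Nat.card (Sylow 5 S) ∣ 8 := hidx ▸ Q.card_dvd_index
    have hm := card_sylow_modEq_one 5 S
    have hle := Nat.le_of_dvd (by norm_num) hd
    unfold Nat.ModEq at hm
    interval_cases Nat.card (Sylow 5 S) <;> omega
  have : Subsingleton (Sylow 5 S) := (Nat.card_eq_one_iff_unique.1 hn1).1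
  refine ⟨(Q : Subgroup S).map S.subtype, map_subtype_le _, ?_, fun x hx hx5 => ?_⟩
  · rw [← hc]; exact (Nat.card_congr (equivMapOfInjective _ _ S.subtype_injective).toEquiv).symm
  · let x' : S := ⟨x, hx⟩
    have hp : IsPGroup 5 (zpowers x') := by
      rintro ⟨y, n, rfl⟩
      refine ⟨3, Subtype.ext ?_⟩
      have hx'5 : x' ^ (5 ^ 3) = 1 := Subtype.ext (by simpa using hx5)
      show (x' ^ n) ^ (5 ^ 3) = 1
      rw [← zpow_natCast, ← zpow_mul, mul_comm, zpow_mul, zpow_natCast, hx'5, one_zpow]
    obtain ⟨Q', hQ'⟩ := hp.exists_le_sylow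
    exact ⟨x', (Subsingleton.elim Q' Q) ▸ hQ' (mem_zpowers x'), rfl⟩

theorem pow_eq_one_of_mem {P : Subgroup G} (hP : Nat.card P = 125) {x : G} (hx : x ∈ P) :
    x ^ 125 = 1 := hP ▸ (pow_card_eq_one' (x := (⟨x, hx⟩ : P)) |> congrArg Subtype.val)

/-- A subgroup of small index is transitive on the points. -/
theorem trans_of_index_lt {H : Subgroup G} (hH : H.index < 50) (u : Ω)
    (hu : ∃ R : Sylow 5 H, ∀ x : H, x ∈ (R : Subgroup H) → (x : G) • u = u) :
    (orbit H u).ncard = 126 := by
  have : Fact (Nat.Prime 5) := ⟨by norm_num⟩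
  obtain ⟨R, hR⟩ := hu
  have hd : H.index ∣ 126000 := h.card_group ▸ index_dvd_card H
  have hd0 : H.index ≠ 0 := fun e => by rw [e] at hd; simp at hd
  have hm : Nat.card H = 126000 / H.index := by
    rw [← h.card_group, ← H.card_mul_index, Nat.mul_div_cancel _ (Nat.pos_of_ne_zero hd0)]
  have horb : (orbit H u).ncard * Nat.card (stabilizer H u) = Nat.card H := by
    rw [← index_stabilizer, mul_comm, card_mul_index]
  have hle : (orbit H u).ncard ≤ 126 := h.card_points ▸ Set.ncard_le_card _
  have ho : (orbit H u).ncard ≠ 0 :=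
    Set.ncard_ne_zero_of_mem (mem_orbit_self u) (Set.toFinite _)
  have hkey : ∀ i : ℕ, 5 ^ i ∣ 126000 / H.index → 5 ^ i ∣ (orbit H u).ncard - 1 := ?_
  refine orbit_arith _ hH _ (by omega) ⟨hd, ho, hm ▸ Dvd.intro _ horb, ?_,
    hkey 1, hkey 2, hkey 3⟩
  · rw [← hm, ← horb, Nat.mul_div_cancel_left _ (Nat.pos_of_ne_zero ho)]
    refine dvd_trans ?_ (h.card_stab u).dvd
    refine Subgroup.card_dvd_of_injective
      ((H.subtype.comp (stabilizer H u).subtype).codRestrict (stabilizer G u) fun x => x.2) ?_
    intro a b hab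
    exact Subtype.ext (Subtype.ext (congrArg Subtype.val hab :))
  · intro i hi
    -- the Sylow subgroup is semiregular off `u`
    have hdvd : 5 ^ i ∣ Nat.card R := R.pow_dvd_card_of_pow_dvd_card (hm ▸ hi)
    refine hdvd.trans ?_
    let X := {w : Ω // w ∈ orbit H u ∧ w ≠ u}
    let _ : MulAction R X :=
      { smul := fun r w => ⟨((r : H) : G) • w.1, by
          refine ⟨?_, fun e => w.2.2 ?_⟩
          · exact mem_orbit_of_mem_orbit (r : H) w.2.1
          · exact MulAction.injective ((r : H) : G) (e.trans (hR r r.2).symm)⟩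
        one_smul := fun w => Subtype.ext (one_smul G w.1)
        mul_smul := fun a b w => Subtype.ext (mul_smul ((a : H) : G) ((b : H) : G) w.1) }
    have hstab : ∀ w : X, stabilizer R w = ⊥ := fun w => by
      rw [eq_bot_iff]
      intro r hr
      by_contra hne
      have h5 : ((r : H) : G) ^ 125 = 1 := by
        obtain ⟨k, hk⟩ := R.isPGroup' r
        have hdiv : orderOf ((r : H) : G) ∣ 5 ^ k := orderOf_dvd_of_pow_eq_one (by
          simpa using congrArg (fun z : R => ((z : H) : G)) hk)
        obtain ⟨j, -, hj⟩ := (Nat.dvd_prime_pow (by norm_num)).1 hdiv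
        refine orderOf_dvd_iff_pow_eq_one.1 ?_
        have h2 : orderOf ((r : H) : G) ∣ 126000 := h.card_group ▸ orderOf_dvd_natCard _
        rw [hj] at h2 ⊢
        exact (Nat.Coprime.dvd_of_dvd_mul_right (Nat.Coprime.pow_left j (by norm_num))
          (show 5 ^ j ∣ 125 * 1008 from h2))
      refine w.2.2 (h.uniq _ h5 (fun e => hne ?_) _ _ (congrArg Subtype.val hr :) (hR r r.2))
      exact Subgroup.mem_bot.2 (Subtype.ext (Subtype.ext e))
    have hX : Nat.card X = (orbit H u).ncard - 1 := by
      rw [← Set.ncard_diff_singleton_of_mem (mem_orbit_self (M := H) u), ← Nat.card_coe_set_eq]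
      rfl
    rw [← hX, Nat.card_congr (selfEquivOrbitsQuotientProd hstab), Nat.card_prod]
    exact dvd_mul_left _ _

/-- No proper subgroup of index less than 50. -/
theorem index_ge {H : Subgroup G} (hH : H ≠ ⊤) : 50 ≤ H.index := by
  by_contra hlt
  push Not at hlt
  have : Fact (Nat.Prime 5) := ⟨by norm_num⟩
  have := h.simple
  let R : Sylow 5 H := default
  obtain ⟨u, hu⟩ := R.isPGroup'.nonempty_fixed_point_of_prime_not_dvd_card (α := Ω)
    (by rw [h.card_points]; norm_num)
  have horb := h.trans_of_index_lt hlt u ⟨R, fun x hx => hu ⟨x, hx⟩⟩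
  have htr : ∀ w, w ∈ orbit H u := fun w => by
    have : orbit H u = Set.univ := Set.eq_univ_of_univ_subset
      (Set.eq_of_subset_of_ncard_le (Set.subset_univ _) (by rw [Set.ncard_univ, h.card_points, horb])
        (Set.toFinite _)).ge
    rw [this]; trivial
  have hd : H.index ∣ 126000 := h.card_group ▸ index_dvd_card H
  have hs : ∀ w : Ω, Nat.card ↥(H ⊓ stabilizer G w) * 126 * H.index = 126000 := fun w => by
    have e : (stabilizer G w).subgroupOf H = stabilizer H w := by ext x; rfl
    have h1 : (orbit H w).ncard = 126 := by rw [orbit_eq_iff.2 (htr w), horb]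
    rw [← h.card_group, ← H.card_mul_index, ← (stabilizer H w).card_mul_index, index_stabilizer, h1,
      ← e, Nat.card_congr (subgroupOfEquivOfLe (inf_le_left : H ⊓ stabilizer G w ≤ H)).toEquiv.symm,
      show (H ⊓ stabilizer G w).subgroupOf H = (stabilizer G w).subgroupOf H from
        (inf_subgroupOf_left _ _)]
  have hcoreless : ∀ N : Subgroup G, N.Normal → N ≤ H → N = ⊥ := fun N hN hle =>
    hN.eq_bot_or_eq_top.resolve_right fun e => hH (eq_top_iff.2 (e ▸ hle))
  obtain ⟨u₀, x₀, y₀, hxu, hyu, hx5, hy5, hne⟩ := h.nonabelian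
  by_cases h25 : 25 ∣ H.index
  · -- index 25
    have hidx : H.index = 25 := by
      obtain ⟨c, hc⟩ := h25
      have : c < 2 := by omega
      interval_cases c <;> simp_all
    set S := H ⊓ stabilizer G u
    have hS : Nat.card S = 40 := by
      have : Nat.card S * 126 * H.index = 126000 := hs u
      rw [hidx] at this; omega
    obtain ⟨P, hPle, hPc, hPmem⟩ := h.exists_sylow u
    let R5 : Sylow 5 S := default
    have hR5 : Nat.card R5 = 5 := by
      rw [R5.card_eq_multiplicity, hS, show (40 : ℕ) = 8 * 5 by norm_num,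
        Nat.factorization_mul (by norm_num) (by norm_num), Finsupp.add_apply,
        Nat.factorization_eq_zero_of_not_dvd (by norm_num : ¬ 5 ∣ 8),
        Nat.Prime.factorization (by norm_num : Nat.Prime 5)]
      simp
    obtain ⟨r, hr⟩ := exists_prime_orderOf_dvd_card' (G := S) 5 (by rw [hS]; norm_num)
    have hrP : (r : G) ∈ P := hPmem _ r.2.2 (orderOf_dvd_iff_pow_eq_one.1
      (by rw [orderOf_coe, hr]; norm_num))
    have hPH : P ⊓ H = zpowers (r : G) := by
      symm
      refine Subgroup.eq_of_le_of_card_ge (zpowers_le.2 ⟨hrP, r.2.1⟩) ?_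
      rw [Nat.card_zpowers, orderOf_coe, hr]
      have h1 : Nat.card ↥(P ⊓ H) ∣ 125 := hPc ▸ Subgroup.card_dvd_of_le inf_le_left
      have h2 : Nat.card ↥(P ⊓ H) ∣ 40 :=
        hS ▸ Subgroup.card_dvd_of_le (le_inf inf_le_right (inf_le_left.trans hPle))
      exact Nat.le_of_dvd (by norm_num) (Nat.dvd_gcd h1 h2)
    -- an involution centralizing `r`
    obtain ⟨t, ht, htr'⟩ : ∃ t : G, orderOf t = 2 ∧ t * r = r * t := by
      let R' : Subgroup S := zpowers r
      have hR'n : R'.Normal := by
        refine ⟨fun n hn g => ?_⟩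
        obtain ⟨k, rfl⟩ := hn
        refine mem_zpowers_iff.2 ?_
        have hmem : ((g * r ^ k * g⁻¹ : S) : G) ∈ zpowers (r : G) := by
          rw [← hPH]
          refine ⟨hPmem _ (g * r ^ k * g⁻¹).2.2 ?_, (g * r ^ k * g⁻¹).2.1⟩
          have : (g * r ^ k * g⁻¹) ^ 125 = 1 := by
            rw [conj_pow, ← zpow_natCast, ← zpow_mul, mul_comm, zpow_mul, zpow_natCast,
              orderOf_dvd_iff_pow_eq_one.1 (by rw [hr]; norm_num : orderOf r ∣ 125), one_zpow]
            group
          exact_mod_cast congrArg Subtype.val this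
        obtain ⟨l, hl⟩ := mem_zpowers_iff.1 hmem
        exact ⟨l, Subtype.ext (by simpa using hl)⟩
      let φ : S →* MulAut R' := MulAut.conjNormal
      have hφ : Nat.card φ.range ∣ 4 := by
        have hc5 : Nat.card R' = 5 := by rw [Nat.card_zpowers, hr]
        have : IsCyclic R' := isCyclic_of_prime_card hc5
        have hAut : Nat.card (MulAut R') = 4 := by
          rw [IsCyclic.card_mulAut, hc5]; rfl
        exact hAut ▸ Subgroup.card_subgroup_dvd_card _
      have hk : 2 ∣ Nat.card φ.ker := by
        have h1 := φ.ker.card_mul_index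
        rw [Subgroup.index_ker, hS] at h1
        have := Nat.le_of_dvd (by norm_num) hφ
        interval_cases hi : Nat.card φ.range <;> omega
      obtain ⟨t, ht⟩ := exists_prime_orderOf_dvd_card' (G := φ.ker) 2 hk
      refine ⟨((t : S) : G), by rw [orderOf_coe, orderOf_coe, ht], ?_⟩
      have h1 := DFunLike.congr_fun (MonoidHom.mem_ker.1 t.2) ⟨r, mem_zpowers r⟩
      have h2 := congrArg (fun z : R' => ((z : S) : G)) h1
      simp [φ, MulAut.conjNormal_apply] at h2
      exact mul_inv_eq_iff_eq_mul.1 h2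
    have hcent : ∀ x ∈ P, x * (r : G) = r * x := fun x hx =>
      h.inv_comm t r ht (by rw [orderOf_coe, hr]) htr' u x r.2.2 (hPle hx) (h.pow_eq_one_of_mem hPc hx)
    -- `P` is transitive on the cosets
    have hcov : ∀ g : G, ∃ x ∈ P, x⁻¹ * g ∈ H := by
      let f : P → G ⧸ H := fun x => ((x : G) : G ⧸ H)
      have hfib : ∀ a b : P, f a = f b → (a : G)⁻¹ * b ∈ zpowers (r : G) := fun a b e => by
        rw [← hPH]; exact ⟨P.mul_mem (P.inv_mem a.2) b.2, QuotientGroup.eq.1 e⟩
      have hcard : 25 ≤ Nat.card (Set.range f) := by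
        classical
        have : Fintype P := Fintype.ofFinite _
        have h5 : ∀ y ∈ Finset.univ.image f, (Finset.univ.filter fun a => f a = y).card ≤ 5 := by
          intro y hy
          obtain ⟨a₀, -, rfl⟩ := Finset.mem_image.1 hy
          have : Fintype (zpowers (r : G)) := Fintype.ofFinite _
          refine le_trans (Finset.card_le_card_of_injOn (fun a => (a₀ : G)⁻¹ * a)
            (t := (zpowers (r : G) : Set G).toFinset) ?_ ?_) ?_
          · intro a ha
            simpa using hfib a₀ a (Finset.mem_filter.1 ha).2.symm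
          · intro a _ b _ e; exact Subtype.ext (mul_left_cancel e)
          · rw [Set.toFinset_card, ← Nat.card_eq_fintype_card]
            show Nat.card (zpowers (r : G)) ≤ 5
            rw [Nat.card_zpowers, orderOf_coe, hr]
        have h1 := Finset.card_le_mul_card_image (f := f) Finset.univ 5 h5
        rw [Finset.card_univ, ← Nat.card_eq_fintype_card, hPc] at h1
        rw [Nat.card_coe_set_eq, ← Set.image_univ, ← Finset.coe_univ, ← Finset.coe_image,
          Set.ncard_coe_finset]
        omega
      have hall : Set.range f = Set.univ := Set.eq_of_subset_of_ncard_le (Set.subset_univ _)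
        (by rw [Set.ncard_univ, ← H.index_eq_card, hidx, ← Nat.card_coe_set_eq]; exact hcard)
        (Set.toFinite _)
      intro g
      obtain ⟨x, hx⟩ := hall.ge (Set.mem_univ (g : G ⧸ H))
      exact ⟨x, x.2, QuotientGroup.eq.1 hx⟩
    have hr1 : (r : G) ∈ H.normalCore := by
      intro b
      obtain ⟨x, hx, hxb⟩ := hcov b⁻¹
      have e : b * r * b⁻¹ = (x⁻¹ * b⁻¹)⁻¹ * r * (x⁻¹ * b⁻¹) := by
        have := hcent x hx
        calc b * r * b⁻¹ = b * (r * x) * x⁻¹ * b⁻¹ := by group
          _ = b * (x * r) * x⁻¹ * b⁻¹ := by rw [this]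
          _ = _ := by group
      rw [e]
      exact H.mul_mem (H.mul_mem (H.inv_mem hxb) r.2.1) hxb
    rw [hcoreless _ H.normalCore_normal H.normalCore_le, mem_bot] at hr1
    have : orderOf r = 1 := by rw [← orderOf_coe, hr1, orderOf_one]
    omega
  · -- otherwise `H` contains all commutators of 5-elements fixing a point
    set T := {z : G | ∃ (w : Ω) (x y : G), x • w = w ∧ y • w = w ∧ x ^ 125 = 1 ∧ y ^ 125 = 1 ∧
      z = x * y * x⁻¹ * y⁻¹}
    have hTn : (closure T).Normal := by
      refine ⟨fun n hn g => ?_⟩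
      induction hn using Subgroup.closure_induction with
      | mem z hz =>
        obtain ⟨w, x, y, h1, h2, h3, h4, rfl⟩ := hz
        refine Subgroup.subset_closure ⟨g • w, g * x * g⁻¹, g * y * g⁻¹, ?_, ?_, ?_, ?_, ?_⟩
        · simp [mul_smul, h1]
        · simp [mul_smul, h2]
        · rw [conj_pow, h3]; group
        · rw [conj_pow, h4]; group
        · group
      | one => simp
      | mul a b _ _ ha hb =>
        have := mul_mem ha hb
        simpa [mul_assoc] using this
      | inv a _ ha =>
        have := inv_mem ha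
        simpa [mul_assoc] using this
    have hTH : closure T ≤ H := by
      rw [closure_le]
      rintro _ ⟨w, x, y, h1, h2, h3, h4, rfl⟩
      obtain ⟨P, hPle, hPc, hPmem⟩ := h.exists_sylow w
      set S := H ⊓ stabilizer G w
      have h25S : 25 ∣ Nat.card S := by
        have hs' := hs w
        have : 25 ∣ Nat.card S * 126 * H.index := by rw [hs']; norm_num
        by_cases h5 : 5 ∣ H.index
        · obtain ⟨c, hc⟩ := h5
          have h5c : ¬ 5 ∣ c := fun ⟨e, he⟩ => h25 ⟨e, by rw [hc, he]; ring⟩
          have : Nat.card S * 126 * c = 25200 := by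
            have : 5 * (Nat.card S * 126 * c) = 126000 := by rw [← hs', hc]; ring
            omega
          exact ((Nat.Coprime.dvd_of_dvd_mul_right (k := 25) (n := 126 * c) (Nat.Coprime.mul_right
            (by norm_num) (Nat.Coprime.pow_left 2 ((Nat.prime_five.coprime_iff_not_dvd).2 h5c)))
            ⟨1008, by rw [← mul_assoc, this]⟩))
        · exact Nat.Coprime.dvd_of_dvd_mul_right (k := 25) (n := 126 * H.index) (Nat.Coprime.mul_right
            (by norm_num) (Nat.Coprime.pow_left 2 ((Nat.prime_five.coprime_iff_not_dvd).2 h5)))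
            (by rwa [← mul_assoc])
      -- the intersection with `P` has index at most 5
      obtain ⟨Q, hQ⟩ := Sylow.exists_subgroup_card_pow_prime 5 (n := 2) (G := S) h25S
      set Q' := (Q.map S.subtype).subgroupOf P
      have hQP : Q.map S.subtype ≤ P := by
        rintro _ ⟨z, hz, rfl⟩
        refine hPmem _ z.2.2 (orderOf_dvd_iff_pow_eq_one.1 ?_)
        rw [Subgroup.coe_subtype, orderOf_coe, ← orderOf_mk z hz]
        exact (_root_.orderOf_dvd_natCard _).trans (hQ ▸ by norm_num)
      have hQ'c : Nat.card Q' = 25 := by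
        rw [Nat.card_congr (subgroupOfEquivOfLe hQP).toEquiv,
          ← Nat.card_congr (equivMapOfInjective _ _ S.subtype_injective).toEquiv, hQ]
        norm_num
      have hQ'i : Q'.index = 5 := by
        have := Q'.card_mul_index; rw [hQ'c, hPc] at this; omega
      have : Q'.Normal := normal_of_index_eq_minFac_card (by
        rw [hQ'i, hPc]; norm_num)
      have : IsCyclic (P ⧸ Q') := isCyclic_of_prime_card (p := 5) (by rw [← Q'.index_eq_card, hQ'i])
      let x' : P := ⟨x, hPmem x h1 h3⟩
      let y' : P := ⟨y, hPmem y h2 h4⟩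
      have hmem : x' * y' * x'⁻¹ * y'⁻¹ ∈ Q' := by
        rw [← QuotientGroup.eq_one_iff]
        have := (IsCyclic.commutative (α := P ⧸ Q')).is_comm.comm (x' : P ⧸ Q') (y' : P ⧸ Q')
        simp [this]
      obtain ⟨z, -, hz⟩ := mem_subgroupOf.1 hmem
      show x * y * x⁻¹ * y⁻¹ ∈ H
      have hzH : (z : G) ∈ H := z.2.1
      rwa [show (z : G) = x * y * x⁻¹ * y⁻¹ from hz] at hzH
    have := hcoreless _ hTn hTH
    have hz : x₀ * y₀ * x₀⁻¹ * y₀⁻¹ ∈ closure T :=
      Subgroup.subset_closure ⟨u₀, x₀, y₀, hxu, hyu, hx5, hy5, rfl⟩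
    rw [this, mem_bot, mul_inv_eq_one, mul_inv_eq_iff_eq_mul] at hz
    exact hne hz

end UPoints

end CfsgLib.KnownSimple.UThreeFive
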