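import Cfsg.Agent.Lib.ClassicalGroups.HermBasic
import Cfsg.Agent.Lib.ClassicalGroups.HermGroup
import Cfsg.Prelude.Def_Classical

/-!
Coded matrices over the field with 25 elements `F₅(ω)`, `ω² = 2`.
-/

set_option autoImplicit false

namespace CfsgLib.KnownSimple.UThreeFive

open Matrix CfsgLib.ClassicalGroups

/-- sum of two coded field elements -/
def fadd (a b : ℕ) : ℕ := (a % 5 + b % 5) % 5 + 5 * ((a / 5 + b / 5) % 5)

/-- product of two coded field elements -/
def fmul (a b : ℕ) : ℕ :=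
  (a % 5 * (b % 5) + 2 * (a / 5) * (b / 5)) % 5 + 5 * ((a % 5 * (b / 5) + a / 5 * (b % 5)) % 5)

/-- conjugate of a coded field element -/
def fconj (a : ℕ) : ℕ := a % 5 + 5 * (4 * (a / 5) % 5)

/-- the primitive cube root of unity -/
def lam : ℕ := 17

/-- the cube roots of unity -/
def cubeRoot (s : ℕ) : ℕ := if s = 0 then 1 else if s = 1 then lam else fmul lam lam

/-- entry of a coded matrix -/
def ent (c i j : ℕ) : ℕ := c / 25 ^ (3 * i + j) % 25

/-- entry of the product of two coded matrices -/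
def pent (a b i j : ℕ) : ℕ :=
  fadd (fadd (fmul (ent a i 0) (ent b 0 j)) (fmul (ent a i 1) (ent b 1 j))) (fmul (ent a i 2) (ent b 2 j))

/-- code of the product -/
def cmul (a b : ℕ) : ℕ :=
  pent a b 0 0 + 25 * (pent a b 0 1 + 25 * (pent a b 0 2 + 25 * (pent a b 1 0 + 25 * (pent a b 1 1 +
    25 * (pent a b 1 2 + 25 * (pent a b 2 0 + 25 * (pent a b 2 1 + 25 * pent a b 2 2)))))))

/-- `a = λ^s • b` entrywise for some `s` -/
def projEq (a b : ℕ) : Bool :=
  (List.range 3).any fun s => (List.range 3).all fun i => (List.range 3).all fun j =>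
    ent a i j == fmul (cubeRoot s) (ent b i j)

/-- the matrix lies in `SU₃(5)` -/
def suOk (c : ℕ) : Bool :=
  ((List.range 3).all fun i => (List.range 3).all fun j =>
    fadd (fadd (fmul (ent c 0 i) (fconj (ent c 0 j))) (fmul (ent c 1 i) (fconj (ent c 1 j))))
      (fmul (ent c 2 i) (fconj (ent c 2 j))) == if i == j then 1 else 0) &&
  fadd
    (fadd (fadd (fmul (fmul (ent c 0 0) (ent c 1 1)) (ent c 2 2))
        (fmul (fmul (ent c 0 1) (ent c 1 2)) (ent c 2 0)))
      (fmul (fmul (ent c 0 2) (ent c 1 0)) (ent c 2 1)))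
    (fmul 4 (fadd (fadd (fmul (fmul (ent c 0 2) (ent c 1 1)) (ent c 2 0))
        (fmul (fmul (ent c 0 0) (ent c 1 2)) (ent c 2 1)))
      (fmul (fmul (ent c 0 1) (ent c 1 0)) (ent c 2 2)))) == 1

variable {F : Type*} [Field F] [Fintype F]

/-- value of a code -/
def em (ω : F) (e : ℕ) : F := ((e % 5 : ℕ) : F) + ((e / 5 : ℕ) : F) * ω

/-- the matrix of a code -/
def mat (ω : F) (c : ℕ) : Matrix (Fin 3) (Fin 3) F := fun i j => em ω (ent c i j)

theorem charP_five (hF : Fintype.card F = 25) : CharP F 5 := by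
  obtain ⟨p, hp⟩ := CharP.exists F
  obtain ⟨n, hpr, hc⟩ := FiniteField.card F p
  rw [hF] at hc
  have hdvd : p ∣ 5 ^ 2 := by
    rw [show (5 : ℕ) ^ 2 = p ^ (n : ℕ) by rw [← hc]; norm_num]
    exact dvd_pow_self p n.2.ne'
  obtain rfl : p = 5 := (Nat.prime_dvd_prime_iff_eq hpr (by norm_num)).1 (hpr.dvd_of_dvd_pow hdvd)
  exact hp

theorem exists_omega (hF : Fintype.card F = 25) : ∃ ω : F, ω ^ 2 = 2 := by
  have := charP_five hF
  have h2 : (2 : F) ≠ 0 := by
    intro h
    have : (5 : ℕ) ∣ 2 := (CharP.cast_eq_zero_iff F 5 2).1 (by simpa using h)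
    norm_num at this
  have hr : ringChar F ≠ 2 := by rw [ringChar.eq F 5]; norm_num
  obtain ⟨w, hw⟩ := (FiniteField.isSquare_iff hr h2).2 (by
    rw [hF]
    have : (2 : F) ^ 4 = 1 := by
      rw [← sub_eq_zero, show ((2 : F) ^ 4 - 1) = ((15 : ℕ) : F) by norm_num]
      exact (CharP.cast_eq_zero_iff F 5 15).2 (by norm_num)
    calc (2 : F) ^ (25 / 2) = ((2 : F) ^ 4) ^ 3 := by rw [← pow_mul]
      _ = 1 := by rw [this, one_pow])
  exact ⟨w, by rw [hw, sq]⟩

section Hom

variable [CharP F 5] {ω : F} (hω : ω ^ 2 = 2)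

theorem natCast_mod_five (k : ℕ) : ((k % 5 : ℕ) : F) = (k : F) :=
  (CharP.natCast_eq_natCast F 5).2 (Nat.mod_modEq k 5)

theorem em_eq (x y : ℕ) : em ω (x % 5 + 5 * (y % 5)) = (x : F) + (y : F) * ω := by
  rw [em, Nat.add_mul_mod_self_left, Nat.mod_mod, Nat.add_mul_div_left _ _ (by norm_num),
    Nat.div_eq_of_lt (Nat.mod_lt _ (by norm_num)), zero_add, natCast_mod_five, natCast_mod_five]

theorem em_fadd (a b : ℕ) : em ω (fadd a b) = em ω a + em ω b := by
  rw [fadd, em_eq, em, em]; push_cast; ring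

include hω in
theorem em_fmul (a b : ℕ) : em ω (fmul a b) = em ω a * em ω b := by
  rw [fmul, em_eq, em, em]; push_cast
  linear_combination (-((a / 5 : ℕ) : F) * ((b / 5 : ℕ) : F)) * hω

theorem cast_five : (5 : F) = 0 := by
  simpa using CharP.cast_eq_zero F 5

include hω in
theorem em_fconj (a : ℕ) : em ω (fconj a) = em ω a ^ 5 := by
  have : Fact (Nat.Prime 5) := ⟨by norm_num⟩
  have hfix : ∀ k : ℕ, (k : F) ^ 5 = (k : F) := fun k => by
    rw [← frobenius_def (R := F) 5]; exact map_natCast (frobenius F 5) k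
  have h1 : em ω (fconj a) = ((a % 5 : ℕ) : F) + 4 * ((a / 5 : ℕ) : F) * ω := by
    rw [fconj, show a % 5 = a % 5 % 5 from (Nat.mod_mod a 5).symm, em_eq]; push_cast; simp
  rw [h1, em, add_pow_char, mul_pow, hfix, hfix]
  linear_combination (-((a / 5 : ℕ) : F) * ω * (ω ^ 2 + 2)) * hω

theorem em_one : em ω 1 = 1 := by simp [em]

theorem em_zero : em ω 0 = 0 := by simp [em]

include hω in
theorem em_inj {a b : ℕ} (ha : a < 25) (hb : b < 25) (h : em ω a = em ω b) : a = b := by
  rw [em, em] at h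
  have key : ((a / 5 : ℕ) : F) = ((b / 5 : ℕ) : F) := by
    by_contra hne
    set u : F := ((b % 5 : ℕ) : F) - ((a % 5 : ℕ) : F)
    set v : F := ((a / 5 : ℕ) : F) - ((b / 5 : ℕ) : F)
    have huv : u ^ 2 = 2 * v ^ 2 := by
      rw [show u = v * ω by linear_combination -h, mul_pow, hω, mul_comm]
    have hz : ∀ x y : ZMod 5, x ^ 2 = 2 * y ^ 2 → y = 0 := by decide
    have : Fact (Nat.Prime 5) := ⟨by norm_num⟩
    let f := ZMod.castHom (dvd_refl 5) F
    have := hz ((b % 5 : ℕ) - (a % 5 : ℕ)) ((a / 5 : ℕ) - (b / 5 : ℕ))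
      (f.injective (by simp only [map_pow, map_sub, map_mul, map_natCast, map_ofNat]; exact huv))
    refine hne (sub_eq_zero.1 (?_ : v = 0))
    have h0 := congrArg f this
    simpa only [map_sub, map_natCast, map_zero] using h0
  have key2 : ((a % 5 : ℕ) : F) = ((b % 5 : ℕ) : F) := by rw [key] at h; exact add_right_cancel h
  have e1 := (CharP.natCast_eq_natCast F 5).1 key
  have e2 := (CharP.natCast_eq_natCast F 5).1 key2
  unfold Nat.ModEq at e1 e2
  omega

theorem fadd_lt (a b : ℕ) : fadd a b < 25 := by unfold fadd; omega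

theorem fmul_lt (a b : ℕ) : fmul a b < 25 := by unfold fmul; omega

theorem pent_lt (a b i j : ℕ) : pent a b i j < 25 := fadd_lt _ _

theorem ent_lt (c i j : ℕ) : ent c i j < 25 := Nat.mod_lt _ (by norm_num)

theorem ent_cmul (a b : ℕ) (i j : Fin 3) : ent (cmul a b) i j = pent a b i j := by
  have := pent_lt a b 0 0; have := pent_lt a b 0 1; have := pent_lt a b 0 2
  have := pent_lt a b 1 0; have := pent_lt a b 1 1; have := pent_lt a b 1 2
  have := pent_lt a b 2 0; have := pent_lt a b 2 1; have := pent_lt a b 2 2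
  fin_cases i <;> fin_cases j <;> simp only [ent, cmul] <;> norm_num <;> omega

include hω in
theorem mat_cmul (a b : ℕ) : mat ω (cmul a b) = mat ω a * mat ω b := by
  ext i j
  rw [mat, ent_cmul, pent, em_fadd, em_fadd, em_fmul hω, em_fmul hω, em_fmul hω, Matrix.mul_apply,
    Fin.sum_univ_three]
  rfl

include hω in
theorem exists_su (hF : Fintype.card F = 5 ^ 2) {c : ℕ} (hc : suOk c = true) :
    ∃ g : Cfsg.SU 3 F 5, g.1.1 = mat ω c := by
  simp only [suOk, Bool.and_eq_true, List.all_eq_true, List.mem_range, beq_iff_eq] at hc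
  obtain ⟨hgram, hdet⟩ := hc
  have hG : ∀ i j : Fin 3, mat ω c 0 i * mat ω c 0 j ^ 5 + mat ω c 1 i * mat ω c 1 j ^ 5 +
      mat ω c 2 i * mat ω c 2 j ^ 5 = if i = j then 1 else 0 := by
    intro i j
    have h := congrArg (em ω) (hgram i i.2 j j.2)
    rw [em_fadd, em_fadd, em_fmul hω, em_fmul hω, em_fmul hω, em_fconj hω, em_fconj hω, em_fconj hω] at h
    refine h.trans ?_
    by_cases hij : i = j
    · simp [hij, em_one]
    · simp [hij, Fin.val_inj, em_zero]
  have h4 : em ω 4 = -1 := by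
    simp only [em]; norm_num
    linear_combination cast_five (F := F)
  have hd : (mat ω c).det = 1 := by
    have h := congrArg (em ω) hdet
    simp only [em_fadd, em_fmul hω, h4, em_one] at h
    rw [Matrix.det_fin_three]
    simp only [mat, Fin.val_zero, Fin.val_one, Fin.val_two]
    linear_combination h
  refine ⟨⟨⟨mat ω c, hd⟩, fun u v => ?_⟩, rfl⟩
  show Cfsg.hermForm 3 F 5 (mat ω c *ᵥ u) (mat ω c *ᵥ v) = _
  have hτ : ∀ x : F, x ^ 5 = hermConj hF x := fun x => rfl
  simp only [Cfsg.hermForm, hτ, Fin.sum_univ_three, Matrix.mulVec, dotProduct, map_add, map_mul]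
  have g00 := hG 0 0; have g01 := hG 0 1; have g02 := hG 0 2
  have g10 := hG 1 0; have g11 := hG 1 1; have g12 := hG 1 2
  have g20 := hG 2 0; have g21 := hG 2 1; have g22 := hG 2 2
  simp only [hτ, if_true] at g00 g11 g22
  simp only [hτ, Fin.reduceEq, if_false] at g01 g02 g10 g12 g20 g21
  linear_combination (u 0 * hermConj hF (v 0)) * g00 + (u 0 * hermConj hF (v 1)) * g01 +
    (u 0 * hermConj hF (v 2)) * g02 + (u 1 * hermConj hF (v 0)) * g10 + (u 1 * hermConj hF (v 1)) * g11 +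
    (u 1 * hermConj hF (v 2)) * g12 + (u 2 * hermConj hF (v 0)) * g20 + (u 2 * hermConj hF (v 1)) * g21 +
    (u 2 * hermConj hF (v 2)) * g22

end Hom

end CfsgLib.KnownSimple.UThreeFive
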