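import Cfsg.Agent.Lib.KnownSimple.UThreeFive.Code

/-!
Coded data: generators of a subgroup of index 50 and an invariant set of 105 points.
-/

set_option autoImplicit false

namespace CfsgLib.KnownSimple.UThreeFive

/-- the identity -/
def oneCode : ℕ := 152588281251

/-- the first generator -/
def genA : ℕ := 297619376992

/-- the second generator -/
def genB : ℕ := 1029719406906

/-- a cyclic permutation matrix -/
def permCode : ℕ := 253906275

/-- two unipotent elements fixing the point `(1, 14, 1)` -/
def unipA : ℕ := 3004664068624

/-- see `unipA` -/
def unipB : ℕ := 1176630574052

/-- the fixed point of `unipA` and `unipB` -/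
def unipPoint : ℕ := 976

/-- the code of a word in the generators -/
def wcode (w : List Bool) : ℕ := w.foldl (fun c k => cmul c (if k then genB else genA)) oneCode

/-- words for a subgroup of order 5 -/
def wordsFive : List (List Bool) :=
  [[],
    [false, false, true],
    [false, false, true, false, false, true],
    [false, false, true, false, false, true, false, false, true],
    [false, false, true, false, false, true, false, false, true, false, false, true]]

/-- words for a subgroup of order 7 -/
def wordsSeven : List (List Bool) :=
  [[],
    [false],
    [false, false],
    [false, false, false],
    [false, false, false, false],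
    [false, false, false, false, false],
    [false, false, false, false, false, false]]

/-- words for a subgroup of order 8 -/
def wordsEight : List (List Bool) :=
  [[],
    [false, false, false, true, false, true, false, false, false, false, true, false, false, true, false],
    [false, false, false, true, false, false, true, false, true],
    [false, false, false, true, false, false, true, false, true, false, false, false, true, false, true, false, false, false, false, true, false, false, true, false],
    [false, false, false, true, false, false, true, false, true, false, false, false, true, false, false, true, false, true],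
    [false, false, false, true, false, false, true, false, true, false, false, false, true, false, false, true, false, true, false, false, false, true, false, true, false, false, false, false, true, false, false, true, false],
    [false, false, false, true, false, false, true, false, true, false, false, false, true, false, false, true, false, true, false, false, false, true, false, false, true, false, true],
    [false, false, false, true, false, false, true, false, true, false, false, false, true, false, false, true, false, true, false, false, false, true, false, false, true, false, true, false, false, false, true, false, true, false, false, false, false, true, false, false, true, false]]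

/-- words for a subgroup of order 9 -/
def wordsNine : List (List Bool) :=
  [[],
    [true, false, false, false, true, false, false],
    [true, false, false, false, true, false, false, true, false, false, false, true, false, false],
    [false, false, false, true, false, true],
    [false, false, false, true, false, true, true, false, false, false, true, false, false],
    [false, false, false, true, false, true, true, false, false, false, true, false, false, true, false, false, false, true, false, false],
    [false, false, false, true, false, true, false, false, false, true, false, true],
    [false, false, false, true, false, true, false, false, false, true, false, true, true, false, false, false, true, false, false],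
    [false, false, false, true, false, true, false, false, false, true, false, true, true, false, false, false, true, false, false, true, false, false, false, true, false, false]]

/-- coordinate of a coded vector -/
def vent (v i : ℕ) : ℕ := v / 25 ^ i % 25

/-- image of a coded vector -/
def cmulVec (c v i : ℕ) : ℕ :=
  fadd (fadd (fmul (ent c i 0) (vent v 0)) (fmul (ent c i 1) (vent v 1))) (fmul (ent c i 2) (vent v 2))

/-- the invariant set of points -/
def pointSet : List ℕ :=
  [650, 7951, 7801, 7451, 451, 5651, 8676, 926, 5601, 13526, 12376, 476, 3351, 6876, 9251, 701,
    7051, 15226, 3676, 13626, 5226, 251, 5426, 9451, 5126, 11776, 4051, 6151, 5976, 12076,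
    10951, 6126, 5926, 13276, 13051, 6576, 6751, 8976, 11676, 10526, 15151, 8926, 12626, 14051,
    11226, 11351, 10076, 11301, 4326, 4976, 11701, 2101, 5101, 15376, 11451, 3626, 4076, 9426,
    13101, 4851, 15351, 2126, 7501, 3501, 3651, 11801, 10151, 1501, 14026, 11001, 1176, 13176,
    6401, 1351, 2176, 4401, 2076, 5301, 8201, 14776, 13801, 4301, 3026, 14851, 3401, 1676,
    13676, 3526, 5076, 14876, 3876, 15276, 1801, 8775, 11851, 12026, 2526, 9376, 5501, 3076,
    1926, 5025, 3301, 1601, 8426]

/-- scalars and indices for the images under the first generator (code `scalar + 25 * index`) -/
def imageA : List ℕ :=
  [27, 80, 136, 152, 204, 233, 279, 333, 362, 414, 444, 453, 503, 545, 579, 642, 668, 720, 760,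
    805, 477, 832, 794, 889, 901, 940, 998, 1013, 1045, 1081, 21, 1114, 1147, 1199, 1230, 1264,
    1302, 1365, 1224, 1419, 1448, 617, 1497, 1516, 1569, 1612, 1662, 1689, 1062, 689, 1748,
    1762, 257, 1289, 1808, 1537, 72, 1835, 1883, 1919, 565, 1456, 748, 1967, 1986, 969, 2009,
    2058, 2092, 123, 2123, 2128, 1791, 2169, 1934, 2032, 2188, 2249, 2273, 310, 2301, 2213,
    198, 2362, 2396, 376, 858, 1641, 2458, 2481, 2348, 2418, 2446, 2556, 1867, 2508, 1168,
    2287, 1386, 1721, 2594, 2618, 2532, 1334, 1589]

/-- scalars and indices for the images under the second generator -/
def imageB : List ℕ :=
  [52, 106, 21, 185, 49, 261, 311, 94, 383, 243, 140, 495, 165, 567, 610, 205, 699, 734, 783,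
    297, 518, 866, 326, 774, 369, 965, 1024, 406, 1074, 428, 581, 455, 1172, 1208, 548, 1279,
    1336, 1399, 636, 993, 656, 1472, 706, 1535, 1592, 1648, 820, 1371, 830, 1707, 1262, 888,
    1788, 915, 1177, 931, 1820, 1873, 1045, 1927, 1839, 1094, 1568, 1101, 1882, 1141, 2028,
    1693, 1239, 1763, 1729, 1304, 1422, 1507, 1441, 1614, 2212, 1496, 2067, 2290, 2344, 1659,
    1951, 2093, 2147, 2120, 2424, 2427, 1912, 2524, 2392, 1986, 2528, 2010, 2368, 2251, 2156,
    2196, 2484, 2453, 2231, 2309, 2568, 2617, 2576]

/-- `g • v` is the prescribed multiple of a point of the set -/
def imageOk (g v t : ℕ) : Bool :=
  (List.range 3).all fun i => cmulVec g v i == fmul (t % 25) (vent (pointSet.getD (t / 25) 0) i)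

/-- the list of codes is closed under products and has no repetition, up to scalars -/
def groupOk (l : List ℕ) : Bool :=
  (l.all fun a => l.all fun b => l.any fun c => projEq (cmul a b) c) &&
    (List.range l.length).all fun i => (List.range i).all fun j => !projEq (l.getD i 0) (l.getD j 0)

theorem gens_ok : suOk oneCode = true ∧ suOk genA = true ∧ suOk genB = true ∧ suOk permCode = true ∧
    suOk unipA = true ∧ suOk unipB = true := by
  decide +kernel

theorem groups_ok : groupOk (wordsFive.map wcode) = true ∧ groupOk (wordsSeven.map wcode) = true ∧
    groupOk (wordsEight.map wcode) = true ∧ groupOk (wordsNine.map wcode) = true := by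
  decide +kernel

theorem imageA_ok : ((pointSet.zip imageA).all fun p => imageOk genA p.1 p.2) = true ∧
    (imageA.all fun t => t % 25 != 0 && decide (t / 25 < pointSet.length)) = true ∧
    imageA.length = pointSet.length := by
  decide +kernel

theorem imageB_ok : ((pointSet.zip imageB).all fun p => imageOk genB p.1 p.2) = true ∧
    (imageB.all fun t => t % 25 != 0 && decide (t / 25 < pointSet.length)) = true ∧
    imageB.length = pointSet.length := by
  decide +kernel

theorem perm_moves : (pointSet.all fun w => (List.range 25).all fun c =>
    (List.range 3).any fun i => cmulVec permCode (pointSet.getD 0 0) i != fmul c (vent w i)) = true := by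
  decide +kernel

theorem unip_ok :
    ((List.range 3).all fun i => cmulVec unipA unipPoint i == vent unipPoint i &&
      cmulVec unipB unipPoint i == vent unipPoint i) = true ∧
    fadd (fadd (fmul (vent unipPoint 0) (fconj (vent unipPoint 0)))
      (fmul (vent unipPoint 1) (fconj (vent unipPoint 1)))) (fmul (vent unipPoint 2) (fconj (vent unipPoint 2))) = 0 ∧
    cmul (cmul (cmul (cmul unipA unipA) unipA) unipA) unipA = oneCode ∧
    cmul (cmul (cmul (cmul unipB unipB) unipB) unipB) unipB = oneCode ∧
    projEq (cmul unipA unipB) (cmul unipB unipA) = false := by
  decide +kernel

theorem one_code : (List.range 3).all (fun i => (List.range 3).all fun j =>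
    ent oneCode i j == if i == j then 1 else 0) = true ∧ oneCode < 25 ^ 9 := by
  decide +kernel

end CfsgLib.KnownSimple.UThreeFive
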