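import Cfsg.Agent.Lib.KnownSimple.UThreeFive.Abstract
import Cfsg.Agent.Lib.KnownSimple.UThreeFive.Code
import Cfsg.Agent.Lib.ClassicalGroups.UnitarySimple
import Cfsg.Agent.Lib.ClassicalGroups.HermCount
import Cfsg.Agent.Lib.ClassicalGroups.SUThreeInvolutions

/-!
The action of `PSU₃(5)` on its 126 isotropic points.
-/

set_option autoImplicit false

namespace CfsgLib.KnownSimple.UThreeFive

open Matrix CfsgLib.ClassicalGroups CfsgLib.SUThreeInv

local notation "𝕙" => Cfsg.hermForm 3 _ 5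

variable {F : Type*} [Field F] [Fintype F] (hF : Fintype.card F = 5 ^ 2)

local notation "SU₅" => Cfsg.SU 3 F 5

/-- the isotropic points -/
def IsoPt (F : Type*) [Field F] : Type _ :=
  {P : Projectivization F (Fin 3 → F) // Cfsg.hermForm 3 F 5 P.rep P.rep = 0}

theorem mulVec_inj (g : SU₅) : Function.Injective (fun v => g.1.1 *ᵥ v) :=
  Matrix.mulVec_injective_iff_isUnit.2 ((Matrix.isUnit_iff_isUnit_det _).2 (by rw [g.1.2]; exact isUnit_one))

include hF in
theorem iso_of_rep {v : Fin 3 → F} (hv : v ≠ 0) :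
    𝕙 (Projectivization.mk F v hv).rep (Projectivization.mk F v hv).rep = 0 ↔ 𝕙 v v = 0 := by
  obtain ⟨a, ha⟩ := Projectivization.exists_smul_eq_mk_rep F v hv
  rw [← ha, Units.smul_def, hermForm_smul_left, hermForm_smul_right, ← mul_assoc,
    mul_eq_zero, or_iff_right]
  simp

theorem smul_rep_ne (g : SU₅) (P : Projectivization F (Fin 3 → F)) : g.1.1 *ᵥ P.rep ≠ 0 := fun h =>
  P.rep_nonzero (mulVec_inj g (by simpa using h))

/-- the action on points -/
noncomputable def isoAct : MulAction SU₅ (IsoPt F) where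
  smul g P := ⟨Projectivization.mk F (g.1.1 *ᵥ P.1.rep) (smul_rep_ne g P.1), by
    rw [iso_of_rep hF]; exact (g.2 _ _).trans P.2⟩
  one_smul P := Subtype.ext (by
    show Projectivization.mk F _ _ = P.1
    conv_rhs => rw [← P.1.mk_rep]
    exact (Projectivization.mk_eq_mk_iff' F _ _ _ _).2 ⟨1, by simp⟩)
  mul_smul g k P := Subtype.ext (by
    show Projectivization.mk F ((g * k).1.1 *ᵥ P.1.rep) (smul_rep_ne (g * k) P.1) =
      Projectivization.mk F (g.1.1 *ᵥ (Projectivization.mk F (k.1.1 *ᵥ P.1.rep) (smul_rep_ne k P.1)).rep)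
        (smul_rep_ne g _)
    obtain ⟨c, hc⟩ := Projectivization.exists_smul_eq_mk_rep F _ (smul_rep_ne k P.1)
    rw [Projectivization.mk_eq_mk_iff']
    refine ⟨((c⁻¹ : Fˣ) : F), ?_⟩
    rw [← hc, Units.smul_def, Matrix.mulVec_smul, smul_smul, Units.inv_mul, one_smul,
      SU_mul_mulVec])

theorem mk_smul_eq (g : SU₅) (P : IsoPt F) {v : Fin 3 → F} (hv : v ≠ 0)
    (hP : P.1 = Projectivization.mk F v hv) :
    letI := isoAct hF
    g • P = P ↔ ∃ c : F, g.1.1 *ᵥ v = c • v := by
  obtain ⟨a, ha⟩ : ∃ a : Fˣ, a • v = P.1.rep := by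
    rw [hP]; exact Projectivization.exists_smul_eq_mk_rep F v hv
  constructor
  · intro h
    have h' : Projectivization.mk F (g.1.1 *ᵥ P.1.rep) (smul_rep_ne g P.1) = P.1 := congrArg Subtype.val h
    rw [← P.1.mk_rep, Projectivization.mk_eq_mk_iff'] at h'
    obtain ⟨c, hc⟩ := h'
    refine ⟨c, ?_⟩
    rw [Projectivization.mk_rep] at hc
    rw [← ha, Units.smul_def, Matrix.mulVec_smul, smul_comm] at hc
    exact (smul_right_injective _ a.ne_zero hc).symm
  · rintro ⟨c, hc⟩
    refine Subtype.ext ?_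
    show Projectivization.mk F (g.1.1 *ᵥ P.1.rep) (smul_rep_ne g P.1) = P.1
    conv_rhs => rw [← P.1.mk_rep]
    rw [Projectivization.mk_eq_mk_iff']
    refine ⟨c, ?_⟩
    rw [← ha, Units.smul_def, Matrix.mulVec_smul, hc, smul_comm]

include hF in
theorem pow_order_eigen {g : SU₅} (hg : g ^ 125 = 1) {v : Fin 3 → F} (hv : v ≠ 0) {c : F}
    (h : g.1.1 *ᵥ v = c • v) : g.1.1 *ᵥ v = v := by
  have hn : ∀ k : ℕ, (g ^ k).1.1 *ᵥ v = c ^ k • v := by
    intro k
    induction k with
    | zero => simp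
    | succ k ih => rw [pow_succ, SU_mul_mulVec, h, Matrix.mulVec_smul, ih, smul_smul, pow_succ']
  have h125 := hn 125
  rw [hg, SU_one_mulVec] at h125
  have hc : c ^ 125 = 1 := by
    have : (c ^ 125 - 1) • v = 0 := by rw [sub_smul, ← h125, one_smul, sub_self]
    exact sub_eq_zero.1 ((smul_eq_zero.1 this).resolve_right hv)
  have := charP_five (F := F) (by rw [hF]; norm_num)
  have : Fact (Nat.Prime 5) := ⟨by norm_num⟩
  have hc1 : (c - 1) ^ 5 ^ 3 = 0 := by rw [sub_pow_char_pow, one_pow]; simpa using sub_eq_zero.2 hc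
  rw [h, sub_eq_zero.1 (eq_zero_of_pow_eq_zero hc1), one_smul]

include hF in
theorem span_three {x y e : Fin 3 → F} (hx : 𝕙 x x = 0) (hy : 𝕙 y y = 0) (hxy : 𝕙 x y = 1)
    (he : 𝕙 e e ≠ 0) (hex : 𝕙 e x = 0) (hey : 𝕙 e y = 0) (z : Fin 3 → F) :
    ∃ a b c : F, z = a • x + b • y + c • e := by
  have hyx : 𝕙 y x = 1 := by rw [hermForm_symm hF 3 x y, hxy, one_pow]
  have hxe : 𝕙 x e = 0 := by rw [hermForm_symm hF 3 e x, hex, zero_pow (by norm_num)]
  have hye : 𝕙 y e = 0 := by rw [hermForm_symm hF 3 e y, hey, zero_pow (by norm_num)]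
  have hli : LinearIndependent F ![x, y, e] := by
    rw [Fintype.linearIndependent_iff]
    intro g hg
    have hsum : g 0 • x + g 1 • y + g 2 • e = 0 := by simpa [Fin.sum_univ_three] using hg
    have h1 := congrArg (fun w => 𝕙 w y) hsum
    have h2 := congrArg (fun w => 𝕙 w x) hsum
    have h3 := congrArg (fun w => 𝕙 w e) hsum
    simp only [hermForm_add_left, hermForm_smul_left, hermForm_zero_left, hx, hy, hxy, hyx, hex, hey, hxe,
      hye, mul_zero, mul_one, add_zero, zero_add] at h1 h2 h3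
    intro i
    fin_cases i
    · exact h1
    · exact h2
    · exact (mul_eq_zero.1 h3).resolve_right he
  have hz : z ∈ Submodule.span F (Set.range ![x, y, e]) := by
    rw [hli.span_eq_top_of_card_eq_finrank' (by simp)]; trivial
  obtain ⟨g, hg⟩ := (Submodule.mem_span_range_iff_exists_fun F).1 hz
  exact ⟨g 0, g 1, g 2, by rw [← hg]; simp [Fin.sum_univ_three]⟩

include hF in
theorem eq_one_of_fix_three {g : SU₅} (hg : g ^ 125 = 1) {x y e : Fin 3 → F} (hx : 𝕙 x x = 0)
    (hy : 𝕙 y y = 0) (hxy : 𝕙 x y = 1) (he : 𝕙 e e ≠ 0) (hex : 𝕙 e x = 0) (hey : 𝕙 e y = 0)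
    (hgx : g.1.1 *ᵥ x = x) (hgy : g.1.1 *ᵥ y = y) : g = 1 := by
  have hyx : 𝕙 y x = 1 := by rw [hermForm_symm hF 3 x y, hxy, one_pow]
  obtain ⟨a, b, c, habc⟩ := span_three hF hx hy hxy he hex hey (g.1.1 *ᵥ e)
  have h1 : 𝕙 (g.1.1 *ᵥ e) y = 0 := by
    rw [← hey]; exact (congrArg (Cfsg.hermForm 3 F 5 _) hgy.symm).trans (g.2 e y)
  have h2 : 𝕙 (g.1.1 *ᵥ e) x = 0 := by
    rw [← hex]; exact (congrArg (Cfsg.hermForm 3 F 5 _) hgx.symm).trans (g.2 e x)
  simp only [habc, hermForm_add_left, hermForm_smul_left, hx, hy, hxy, hyx, hex, hey, mul_zero, mul_one,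
    add_zero, zero_add] at h1 h2
  rw [h1, h2, zero_smul, zero_smul, zero_add, zero_add] at habc
  have he0 : e ≠ 0 := fun h => he (by rw [h, hermForm_zero_left])
  have hge := pow_order_eigen hF hg he0 habc
  refine SU_ext fun z => ?_
  obtain ⟨a, b, c, rfl⟩ := span_three hF hx hy hxy he hex hey z
  rw [SU_one_mulVec, Matrix.mulVec_add, Matrix.mulVec_add, Matrix.mulVec_smul, Matrix.mulVec_smul,
    Matrix.mulVec_smul, hgx, hgy, hge]

include hF in
/-- the normal form of a 5-element commuting with an involution -/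
theorem commute_of_inv {t r x : SU₅} (ht : t ≠ 1) (ht2 : t * t = 1) (hr : r ^ 125 = 1) (hr1 : r ≠ 1)
    (htr : t * r = r * t) {u : Fin 3 → F} (hu0 : u ≠ 0) (hu : 𝕙 u u = 0) (hru : r.1.1 *ᵥ u = u)
    (hxu : x.1.1 *ᵥ u = u) : x * r = r * x := by
  have h5 : Odd 5 := ⟨2, by norm_num⟩
  obtain ⟨⟨v, hv⟩, rfl⟩ := exists_eq_rv h5 hF t ht ht2
  have h2 := two_ne_zero_of_odd h5 hF
  have hv0 : v ≠ 0 := fun h => by rw [h, hermForm_zero_left] at hv; exact zero_ne_one hv
  have hrv : r.1.1 *ᵥ v = v := by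
    have h := congrArg (fun g : SU₅ => g.1.1 *ᵥ v) htr
    simp only [SU_mul_mulVec, rv_self, rv_apply] at h
    rw [hv, mul_one, Matrix.mulVec_add, Matrix.mulVec_neg, Matrix.mulVec_smul] at h
    refine pow_order_eigen hF hr hv0 (c := 𝕙 (r.1.1 *ᵥ v) v) ?_
    apply smul_right_injective (Fin 3 → F) h2
    linear_combination (norm := module) -(1 : F) • h
  have hgv : ∀ z, 𝕙 (r.1.1 *ᵥ z) v = 𝕙 z v := fun z => by
    exact (congrArg (Cfsg.hermForm 3 F 5 _) hrv.symm).trans (r.2 z v)
  have huv : 𝕙 u v = 0 := by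
    by_contra hne
    have hvu : 𝕙 v u ≠ 0 := fun h => hne (by rw [hermForm_symm hF 3 v u, h, zero_pow (by norm_num)])
    -- an isotropic partner of `u` in the plane of `u` and `v`
    set p := ((𝕙 u v)⁻¹) ^ 5 • v with hp
    have hup : 𝕙 u p = 1 := by
      rw [hp, hermForm_smul_right, hermConj_conj hF, inv_mul_cancel₀ hne]
    obtain ⟨d, hd, hud⟩ := exists_isotropic_adjust hF hu hup
    obtain ⟨e, he, heu, hey⟩ := exists_norm_one_perp_pair hF le_rfl hu hd hud
    refine hr1 (eq_one_of_fix_three hF hr hu hd hud (by rw [he]; exact one_ne_zero) heu hey hru ?_)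
    rw [hp, Matrix.mulVec_add, Matrix.mulVec_smul, Matrix.mulVec_smul, hrv, hru]
  have hvu : 𝕙 v u = 0 := by rw [hermForm_symm hF 3 u v, huv, zero_pow (by norm_num)]
  obtain ⟨y₀, -, huy₀⟩ := exists_partner hF hu0 hu
  set p := y₀ - 𝕙 y₀ v • v with hp
  have hpv : 𝕙 p v = 0 := by rw [hp, hermForm_sub_left, hermForm_smul_left, hv, mul_one, sub_self]
  have hup : 𝕙 u p = 1 := by
    rw [hp, hermForm_sub_right hF, hermForm_smul_right, huv, mul_zero, sub_zero, huy₀]
  obtain ⟨d, hd, hud⟩ := exists_isotropic_adjust hF hu hup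
  set y := p + d • u
  have hyv : 𝕙 y v = 0 := by rw [hermForm_add_left, hermForm_smul_left, hpv, huv, mul_zero, add_zero]
  have hvy : 𝕙 v y = 0 := by rw [hermForm_symm hF 3 y v, hyv, zero_pow (by norm_num)]
  have hyu : 𝕙 y u = 1 := by rw [hermForm_symm hF 3 u y, hud, one_pow]
  have hv1 : 𝕙 v v ≠ 0 := by rw [hv]; exact one_ne_zero
  obtain ⟨a, b, c, habc⟩ := span_three hF hu hd hud hv1 hvu hvy (r.1.1 *ᵥ y)
  have hc : c = 0 := by
    have h := hgv y
    rw [habc, hyv] at h
    simpa [hermForm_add_left, hermForm_smul_left, huv, hyv, hv] using h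
  have hb : b = 1 := by
    have h : 𝕙 (r.1.1 *ᵥ y) u = 1 := by
      exact ((congrArg (Cfsg.hermForm 3 F 5 _) hru.symm).trans (r.2 y u)).trans hyu
    rw [habc] at h
    simpa [hermForm_add_left, hermForm_smul_left, hu, hyu, hvu] using h
  rw [hc, hb, one_smul, zero_smul, add_zero] at habc
  have hform : ∀ z, r.1.1 *ᵥ z = z + (a * 𝕙 z u) • u := by
    intro z
    obtain ⟨α, β, γ, rfl⟩ := span_three hF hu hd hud hv1 hvu hvy z
    rw [Matrix.mulVec_add, Matrix.mulVec_add, Matrix.mulVec_smul, Matrix.mulVec_smul, Matrix.mulVec_smul,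
      hru, hrv, habc]
    simp only [hermForm_add_left, hermForm_smul_left, hu, hyu, hvu]
    module
  refine SU_ext fun z => ?_
  rw [SU_mul_mulVec, SU_mul_mulVec, hform, hform, Matrix.mulVec_add, Matrix.mulVec_smul, hxu]
  congr 3
  exact ((congrArg (Cfsg.hermForm 3 F 5 _) hxu.symm).trans (x.2 z u)).symm

include hF in
theorem lift_pow {g : SU₅} (hg : (QuotientGroup.mk g : Cfsg.PSU 3 F 5) ^ 125 = 1) :
    (g ^ 126) ^ 125 = 1 ∧ (QuotientGroup.mk (g ^ 126) : Cfsg.PSU 3 F 5) = QuotientGroup.mk g := by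
  rw [← QuotientGroup.mk_pow, QuotientGroup.eq_one_iff] at hg
  refine ⟨?_, ?_⟩
  · have hc : (⟨g ^ 125, hg⟩ : Subgroup.center SU₅) ^ 126 = 1 := by
      refine orderOf_dvd_iff_pow_eq_one.1 ((orderOf_dvd_natCard _).trans ?_)
      rw [card_center_SU hF (by norm_num)]; norm_num
    have := congrArg Subtype.val hc
    simpa [← pow_mul, mul_comm] using this
  · rw [pow_succ, QuotientGroup.mk_mul, (QuotientGroup.eq_one_iff _).2 hg, one_mul]

include hF in
/-- the projective group acts on the points like the abstract model -/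
theorem exists_upoints : ∃ (_ : MulAction (Cfsg.PSU 3 F 5) (IsoPt F)) (_ : Finite (IsoPt F)),
    (∀ (g : SU₅) (P : IsoPt F), letI := isoAct hF; (QuotientGroup.mk g : Cfsg.PSU 3 F 5) • P = g • P) ∧
    Nat.card (Cfsg.PSU 3 F 5) = 126000 ∧ Nat.card (IsoPt F) = 126 ∧
    MulAction.IsPretransitive (Cfsg.PSU 3 F 5) (IsoPt F) ∧
    (∀ x : Cfsg.PSU 3 F 5, x ^ 125 = 1 → x ≠ 1 → ∀ u v : IsoPt F, x • u = u → x • v = v → u = v) ∧
    ∀ t r : Cfsg.PSU 3 F 5, orderOf t = 2 → orderOf r = 5 → t * r = r * t →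
      ∀ (u : IsoPt F) (x : Cfsg.PSU 3 F 5), r • u = u → x • u = u → x ^ 125 = 1 → x * r = r * x := by
  classical
  let A := isoAct hF
  let φ : SU₅ →* Equiv.Perm (IsoPt F) := @MulAction.toPermHom SU₅ (IsoPt F) _ A
  have hker : Subgroup.center SU₅ ≤ φ.ker := by
    intro z hz
    refine Equiv.ext fun P => ?_
    refine ((mk_smul_eq hF z P P.1.rep_nonzero P.1.mk_rep.symm).2 ⟨z.1.1 0 0, ?_⟩ : z • P = P)
    have hs := center_SU_scalar hF ⟨z, hz⟩
    funext i
    rw [Matrix.mulVec, dotProduct, Finset.sum_eq_single i, Pi.smul_apply, smul_eq_mul, (hs i 0).2]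
    · intro j _ hj; rw [(hs i j).1 (Ne.symm hj), zero_mul]
    · simp
  let ψ := QuotientGroup.lift _ φ hker
  let B : MulAction (Cfsg.PSU 3 F 5) (IsoPt F) := MulAction.compHom (IsoPt F) ψ
  have hfin : Finite (IsoPt F) := Subtype.finite
  have hmk : ∀ (g : SU₅) (P : IsoPt F), (QuotientGroup.mk g : Cfsg.PSU 3 F 5) • P = g • P :=
    fun _ _ => rfl
  have hPSU : Nat.card (Cfsg.PSU 3 F 5) = 126000 := by
    have h1 := card_GU hF 3
    have h2 := card_SU_mul hF (n := 3) (by norm_num)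
    have h3 := card_SU_eq_center_mul_PSU (F := F) (q := 5) 3
    rw [card_center_SU hF (by norm_num)] at h3
    rw [h1, h3] at h2
    norm_num [Finset.prod_range_succ, Nat.even_iff] at h2
    rw [Nat.card_eq_fintype_card]
    omega
  have hΩ : Nat.card (IsoPt F) = 126 := by
    have hc := herm_count_zero hF 2
    norm_num [Nat.even_iff] at hc
    let S := {v : Fin 3 → F // 𝕙 v v = 0}
    let e : {v : S // (v : Fin 3 → F) ≠ 0} ≃ IsoPt F × Fˣ :=
      { toFun := fun v => (⟨Projectivization.mk F v.1.1 v.2, (iso_of_rep hF v.2).2 v.1.2⟩,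
          Classical.choose (Projectivization.exists_smul_eq_mk_rep F v.1.1 v.2))
        invFun := fun P => ⟨⟨((P.2⁻¹ : Fˣ) : F) • P.1.1.rep, by
            rw [hermForm_smul_left, hermForm_smul_right, P.1.2, mul_zero, mul_zero]⟩,
          smul_ne_zero (Units.ne_zero _) P.1.1.rep_nonzero⟩
        left_inv := fun v => by
          have h := Classical.choose_spec (Projectivization.exists_smul_eq_mk_rep F v.1.1 v.2)
          apply Subtype.ext; apply Subtype.ext
          show ((_ : Fˣ)⁻¹ : Fˣ).val • (Projectivization.mk F v.1.1 v.2).rep = v.1.1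
          rw [← h]
          rw [Units.smul_def, smul_smul, Units.inv_mul, one_smul]
        right_inv := fun P => by
          have hne : ((P.2⁻¹ : Fˣ) : F) • P.1.1.rep ≠ 0 :=
            smul_ne_zero (Units.ne_zero _) P.1.1.rep_nonzero
          have hP : Projectivization.mk F _ hne = P.1.1 := by
            conv_rhs => rw [← P.1.1.mk_rep]
            exact (Projectivization.mk_eq_mk_iff' F _ _ _ _).2 ⟨((P.2⁻¹ : Fˣ) : F), rfl⟩
          refine Prod.ext (Subtype.ext hP) (Units.ext ?_)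
          have h := Classical.choose_spec (Projectivization.exists_smul_eq_mk_rep F _ hne)
          dsimp only
          generalize Classical.choose (Projectivization.exists_smul_eq_mk_rep F _ hne) = c at h ⊢
          rw [hP, Units.smul_def, smul_smul] at h
          have h1 : (c : F) * ((P.2⁻¹ : Fˣ) : F) = 1 :=
            smul_left_injective F P.1.1.rep_nonzero (by simpa using h)
          show (c : F) = P.2
          calc (c : F) = (c : F) * (((P.2⁻¹ : Fˣ) : F) * P.2) := by rw [Units.inv_mul, mul_one]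
            _ = P.2 := by rw [← mul_assoc, h1, one_mul] }
    have h1 := Nat.card_congr e
    rw [Nat.card_prod, Nat.card_units, Nat.card_eq_fintype_card (α := F), hF] at h1
    have h2 : Nat.card {v : S // (v : Fin 3 → F) ≠ 0} = 3024 := by
      have h0 : (⟨0, hermForm_zero_left 0⟩ : S) ∈ (Set.univ : Set S) := trivial
      have := Set.ncard_diff_singleton_of_mem h0
      rw [Set.ncard_univ, show Nat.card S = 3025 from (Nat.card_eq_fintype_card (α := S)).trans (by convert hc using 1)] at this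
      rw [show (3024 : ℕ) = 3025 - 1 from rfl, ← this, ← Nat.card_coe_set_eq]
      exact Nat.card_congr (Equiv.subtypeEquivRight fun v => by simp [Subtype.ext_iff])
    rw [h2] at h1
    omega
  have htr : MulAction.IsPretransitive (Cfsg.PSU 3 F 5) (IsoPt F) := by
    refine ⟨fun P Q => ?_⟩
    obtain ⟨y, hy, hPy⟩ := exists_partner hF P.1.rep_nonzero P.2
    obtain ⟨y', hy', hQy⟩ := exists_partner hF Q.1.rep_nonzero Q.2
    obtain ⟨s, a, -, ha, -, hs, -⟩ := exists_SU_map_nonorth hF P.2 hy (by rw [hPy]; exact one_ne_zero)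
      Q.2 hy' (by rw [hQy]; exact one_ne_zero)
    refine ⟨QuotientGroup.mk s, Subtype.ext ?_⟩
    show Projectivization.mk F _ _ = Q.1
    conv_rhs => rw [← Q.1.mk_rep]
    exact (Projectivization.mk_eq_mk_iff' F _ _ _ _).2 ⟨a, hs.symm⟩
  refine ⟨B, hfin, hmk, hPSU, hΩ, htr, ?_, ?_⟩
  · intro x hx hx1 P Q hP hQ
    obtain ⟨g, rfl⟩ := QuotientGroup.mk_surjective x
    obtain ⟨hg, hge⟩ := lift_pow hF hx
    rw [← hge] at hP hQ hx1
    rw [hmk] at hP hQ
    set g' := g ^ 126
    obtain ⟨c, hc⟩ := (mk_smul_eq hF g' P P.1.rep_nonzero P.1.mk_rep.symm).1 hP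
    obtain ⟨d, hd⟩ := (mk_smul_eq hF g' Q Q.1.rep_nonzero Q.1.mk_rep.symm).1 hQ
    have hgP := pow_order_eigen hF hg P.1.rep_nonzero hc
    have hgQ := pow_order_eigen hF hg Q.1.rep_nonzero hd
    by_contra hne
    have hPQ : 𝕙 P.1.rep Q.1.rep ≠ 0 := by
      intro h0
      refine hne (Subtype.ext ?_)
      -- two orthogonal isotropic vectors are proportional
      obtain ⟨y, hy, hPy⟩ := exists_partner hF P.1.rep_nonzero P.2
      obtain ⟨e, he, heP, hey⟩ := exists_norm_one_perp_pair hF le_rfl P.2 hy hPy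
      obtain ⟨a, b, c, habc⟩ :=
        span_three hF P.2 hy hPy (by rw [he]; exact one_ne_zero) heP hey Q.1.rep
      have hb : b = 0 := by
        have hQP : 𝕙 Q.1.rep P.1.rep = 0 := by rw [hermForm_symm hF 3 P.1.rep, h0, zero_pow (by norm_num)]
        have hyP : 𝕙 y P.1.rep = 1 := by rw [hermForm_symm hF 3 P.1.rep, hPy, one_pow]
        rw [habc] at hQP
        simpa [hermForm_add_left, hermForm_smul_left, P.2, hyP, heP] using hQP
      rw [hb, zero_smul, add_zero] at habc
      have hPe : 𝕙 P.1.rep e = 0 := by rw [hermForm_symm hF 3 e, heP, zero_pow (by norm_num)]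
      have hQQ := Q.2
      rw [habc] at hQQ
      simp only [hermForm_add_left, hermForm_add_right hF, hermForm_smul_left, hermForm_smul_right, P.2,
        heP, hPe, he, mul_zero, add_zero, zero_add, mul_one, mul_eq_zero, pow_eq_zero_iff (by norm_num : 5 ≠ 0),
        or_self] at hQQ
      rw [hQQ, zero_smul, add_zero] at habc
      conv_lhs => rw [← P.1.mk_rep]
      conv_rhs => rw [← Q.1.mk_rep]
      rw [eq_comm, Projectivization.mk_eq_mk_iff']
      exact ⟨a, habc.symm⟩
    set k := ((𝕙 P.1.rep Q.1.rep)⁻¹) ^ 5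
    have hy : 𝕙 (k • Q.1.rep) (k • Q.1.rep) = 0 := by
      rw [hermForm_smul_left, hermForm_smul_right, Q.2, mul_zero, mul_zero]
    have hPy : 𝕙 P.1.rep (k • Q.1.rep) = 1 := by
      rw [hermForm_smul_right, hermConj_conj hF, inv_mul_cancel₀ hPQ]
    obtain ⟨e, he, heP, hey⟩ := exists_norm_one_perp_pair hF le_rfl P.2 hy hPy
    have := eq_one_of_fix_three hF hg P.2 hy hPy (by rw [he]; exact one_ne_zero) heP hey hgP
      (by rw [Matrix.mulVec_smul, hgQ])
    exact hx1 (by rw [this]; rfl)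
  · intro t r ht hr htr' P x hrP hxP hx
    obtain ⟨t, rfl⟩ := QuotientGroup.mk_surjective t
    obtain ⟨r, rfl⟩ := QuotientGroup.mk_surjective r
    obtain ⟨x, rfl⟩ := QuotientGroup.mk_surjective x
    have hcz : ∀ z ∈ Subgroup.center SU₅, z ^ 3 = 1 := fun z hz => by
      have : (⟨z, hz⟩ : Subgroup.center SU₅) ^ 3 = 1 :=
        orderOf_dvd_iff_pow_eq_one.1 ((orderOf_dvd_natCard _).trans
          (by rw [card_center_SU hF (by norm_num)]; norm_num))
      exact congrArg Subtype.val this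
    have hr125 : (QuotientGroup.mk r : Cfsg.PSU 3 F 5) ^ 125 = 1 :=
      orderOf_dvd_iff_pow_eq_one.1 (by rw [hr]; norm_num)
    obtain ⟨hr', hre⟩ := lift_pow hF hr125
    obtain ⟨hx', hxe⟩ := lift_pow hF hx
    set r' := r ^ 126
    set x' := x ^ 126
    have ht2 : t * t ∈ Subgroup.center SU₅ := by
      rw [← QuotientGroup.eq_one_iff, QuotientGroup.mk_mul, ← pow_two]
      exact orderOf_dvd_iff_pow_eq_one.1 (by rw [ht])
    set t' := t ^ 3
    have ht'2 : t' * t' = 1 := by
      rw [← pow_add, show 3 + 3 = 2 * 3 by rfl, pow_mul, pow_two]; exact hcz _ ht2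
    have hte : (QuotientGroup.mk t' : Cfsg.PSU 3 F 5) = QuotientGroup.mk t := by
      rw [show t' = t * (t * t) by simp [t', pow_succ, mul_assoc], QuotientGroup.mk_mul,
        (QuotientGroup.eq_one_iff _).2 ht2, mul_one]
    have ht'1 : t' ≠ 1 := fun h => by
      rw [h] at hte
      rw [← hte, QuotientGroup.mk_one, orderOf_one] at ht
      norm_num at ht
    have hr'1 : r' ≠ 1 := fun h => by
      rw [h] at hre
      rw [← hre, QuotientGroup.mk_one, orderOf_one] at hr
      norm_num at hr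
    have hcomm : t' * r' = r' * t' := by
      have hz : t' * r' * t'⁻¹ * r'⁻¹ ∈ Subgroup.center SU₅ := by
        rw [← QuotientGroup.eq_one_iff]
        simp only [QuotientGroup.mk_mul, QuotientGroup.mk_inv, hte, hre, htr']
        group
      set z := t' * r' * t'⁻¹ * r'⁻¹
      have hzr : z * r' = t' * r' * t'⁻¹ := by simp [z]
      have h1 : (z * r') ^ 125 = 1 := by rw [hzr, conj_pow, hr']; group
      rw [(show Commute z r' from (Subgroup.mem_center_iff.1 hz r').symm).mul_pow, hr', mul_one] at h1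
      have hz1 : z = 1 := by
        calc z = z ^ (3 * 42 - 125) := by norm_num
          _ = 1 := by
            rw [pow_sub z (by norm_num), pow_mul, hcz z hz, one_pow, h1, inv_one, one_mul]
      rw [hz1, one_mul] at hzr
      rw [← mul_inv_eq_iff_eq_mul]; exact hzr.symm
    rw [← hre, hmk] at hrP
    rw [← hxe, hmk] at hxP
    obtain ⟨c, hc⟩ := (mk_smul_eq hF r' P P.1.rep_nonzero P.1.mk_rep.symm).1 hrP
    obtain ⟨d, hd⟩ := (mk_smul_eq hF x' P P.1.rep_nonzero P.1.mk_rep.symm).1 hxP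
    have := commute_of_inv hF ht'1 ht'2 hr' hr'1 hcomm P.1.rep_nonzero P.2
      (pow_order_eigen hF hr' P.1.rep_nonzero hc) (pow_order_eigen hF hx' P.1.rep_nonzero hd)
    rw [← hre, ← hxe, ← QuotientGroup.mk_mul, ← QuotientGroup.mk_mul, this]

end CfsgLib.KnownSimple.UThreeFive
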