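import Cfsg.Agent.Lib.KnownSimple.UThreeFive.Data
import Cfsg.Agent.Lib.KnownSimple.UThreeFive.Points

/-!
The minimal index of a proper subgroup of `PSU₃(5)` is 50.
-/

set_option autoImplicit false

namespace CfsgLib.KnownSimple.UThreeFive

open Matrix CfsgLib.ClassicalGroups

local notation "𝕙" => Cfsg.hermForm 3 _ 5

variable {F : Type*} [Field F] [Fintype F]

/-- the vector of a code -/
def vec (ω : F) (v : ℕ) : Fin 3 → F := fun i => em ω (vent v i)

theorem cmulVec_lt (c v i : ℕ) : cmulVec c v i < 25 := fadd_lt _ _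

theorem vent_lt (v i : ℕ) : vent v i < 25 := Nat.mod_lt _ (by norm_num)

section

variable [CharP F 5] {ω : F} (hω : ω ^ 2 = 2)

include hω in
theorem mat_mulVec (c v : ℕ) : mat ω c *ᵥ vec ω v = fun i : Fin 3 => em ω (cmulVec c v i) := by
  funext i
  rw [cmulVec, em_fadd, em_fadd, em_fmul hω, em_fmul hω, em_fmul hω, Matrix.mulVec, dotProduct,
    Fin.sum_univ_three]
  rfl

include hω in
theorem em_surj (hF : Fintype.card F = 5 ^ 2) (x : F) : ∃ e < 25, em ω e = x := by
  have hinj : Function.Injective fun e : Fin 25 => em ω (e : ℕ) :=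
    fun a b h => Fin.ext (em_inj hω a.2 b.2 h)
  have hbij : Function.Bijective fun e : Fin 25 => em ω (e : ℕ) :=
    (Fintype.bijective_iff_injective_and_card _).2 ⟨hinj, by rw [hF, Fintype.card_fin]; norm_num⟩
  obtain ⟨e, he⟩ := hbij.2 x
  exact ⟨e, e.2, he⟩

include hω in
theorem mat_oneCode : mat ω oneCode = 1 := by
  have h := one_code.1
  simp only [List.all_eq_true, List.mem_range, beq_iff_eq] at h
  ext i j
  rw [mat, h i i.2 j j.2]
  rcases eq_or_ne i j with rfl | hij
  · simp [em_one]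
  · simp [hij, Fin.val_inj, em_zero]

include hω in
theorem em_cubeRoot (s : ℕ) : em ω (cubeRoot s) ^ 3 = 1 := by
  have hl : em ω lam ^ 3 = 1 := by
    rw [pow_three, ← em_fmul hω, ← em_fmul hω,
      show fmul lam (fmul lam lam) = 1 by decide +kernel, em_one]
  unfold cubeRoot
  split_ifs
  · rw [em_one, one_pow]
  · exact hl
  · rw [em_fmul hω, mul_pow, hl, one_mul]

include hω in
theorem cube_roots {x : F} (hx : x ^ 3 = 1) : ∃ s < 3, em ω (cubeRoot s) = x := by
  set l := em ω lam
  have hl : l ^ 2 + l + 1 = 0 := by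
    rw [sq, ← em_fmul hω, ← em_one (ω := ω), ← em_fadd, ← em_fadd,
      show fadd (fadd (fmul lam lam) lam) 1 = 0 by decide +kernel, em_zero]
  have h : (x - 1) * ((x - l) * (x - l * l)) = 0 := by
    linear_combination hx + (-x ^ 2 + l * x + (1 - l) + 0) * hl
  rcases mul_eq_zero.1 h with h | h
  · exact ⟨0, by norm_num, by rw [cubeRoot, if_pos rfl, em_one]; exact (sub_eq_zero.1 h).symm⟩
  rcases mul_eq_zero.1 h with h | h
  · exact ⟨1, by norm_num, by
      rw [cubeRoot, if_neg one_ne_zero, if_pos rfl]; exact (sub_eq_zero.1 h).symm⟩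
  · exact ⟨2, by norm_num, by
      rw [cubeRoot, if_neg (by norm_num), if_neg (by norm_num), em_fmul hω]
      exact (sub_eq_zero.1 h).symm⟩

include hω in
theorem mk_eq_iff (hF : Fintype.card F = 5 ^ 2) {a b : ℕ} {x y : Cfsg.SU 3 F 5} (hx : x.1.1 = mat ω a)
    (hy : y.1.1 = mat ω b) :
    (QuotientGroup.mk x : Cfsg.PSU 3 F 5) = QuotientGroup.mk y ↔ projEq a b = true := by
  simp only [projEq, List.any_eq_true, List.all_eq_true, List.mem_range, beq_iff_eq]
  constructor
  · intro h
    have hz := center_SU_scalar hF ⟨y⁻¹ * x, QuotientGroup.eq.1 h.symm⟩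
    set z := y⁻¹ * x
    have hzc : z.1.1 = z.1.1 0 0 • (1 : Matrix (Fin 3) (Fin 3) F) := by
      ext i j
      rcases eq_or_ne i j with rfl | hij
      · rw [Matrix.smul_apply, Matrix.one_apply_eq, smul_eq_mul, mul_one]; exact (hz i 0).2
      · rw [Matrix.smul_apply, Matrix.one_apply_ne hij, smul_zero]; exact (hz i j).1 hij
    have hdet : (z.1.1 0 0) ^ 3 = 1 := by
      have h1 := z.1.2
      rw [hzc, Matrix.det_smul, Matrix.det_one, mul_one, Fintype.card_fin] at h1
      exact h1
    obtain ⟨s, hs, hse⟩ := cube_roots hω hdet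
    have hxy : x.1.1 = em ω (cubeRoot s) • y.1.1 := by
      calc x.1.1 = (y * z).1.1 := by rw [mul_inv_cancel_left]
        _ = y.1.1 * z.1.1 := rfl
        _ = _ := by rw [hzc, Matrix.mul_smul, Matrix.mul_one, ← hse]
    refine ⟨s, hs, fun i hi j hj => em_inj hω (ent_lt _ _ _) (fmul_lt _ _) ?_⟩
    rw [em_fmul hω]
    rw [hx, hy] at hxy
    exact congrFun (congrFun hxy ⟨i, hi⟩) ⟨j, hj⟩
  · rintro ⟨s, -, hs⟩
    have hxy : x.1.1 = em ω (cubeRoot s) • y.1.1 := by
      rw [hx, hy]
      ext i j
      show em ω _ = em ω _ * em ω _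
      rw [hs i i.2 j j.2, em_fmul hω]
    rw [eq_comm, QuotientGroup.eq, Subgroup.mem_center_iff]
    intro z
    have hone : y⁻¹.1.1 * y.1.1 = 1 := congrArg (fun g : Cfsg.SU 3 F 5 => g.1.1) (inv_mul_cancel y)
    apply Subtype.ext; apply Subtype.ext
    simp only [Subgroup.coe_mul, Matrix.SpecialLinearGroup.coe_mul, hxy, Matrix.mul_smul, hone,
      Matrix.smul_mul, Matrix.mul_one, Matrix.one_mul]

end

theorem dvd_card_of_closed {G : Type*} [Group G] [Finite G] (H : Subgroup G) (S : Set G) (hS : S ⊆ H)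
    (h1 : (1 : G) ∈ S) (hmul : ∀ a ∈ S, ∀ b ∈ S, a * b ∈ S) : S.ncard ∣ Nat.card H := by
  let K : Subgroup G :=
    { carrier := S
      one_mem' := h1
      mul_mem' := fun ha hb => hmul _ ha _ hb
      inv_mem' := fun {a} ha => by
        have hp : ∀ n, a ^ n ∈ S := fun n => by
          induction n with
          | zero => simpa using h1
          | succ n ih => rw [pow_succ]; exact hmul _ ih _ ha
        have : a⁻¹ = a ^ (orderOf a - 1) := by
          rw [inv_eq_iff_mul_eq_one, ← pow_succ', Nat.sub_add_cancel (orderOf_pos a), pow_orderOf_eq_one]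
        rw [this]; exact hp _ }
  rw [← Nat.card_coe_set_eq]
  exact Subgroup.card_dvd_of_le (H := K) (K := H) hS

attribute [local irreducible] cmul cmulVec projEq

/-- The minimal index of a proper subgroup of `PSU₃(5)`. -/
theorem psu_three_five_min_index (hF : Fintype.card F = 5 ^ 2) :
    (∀ H : Subgroup (Cfsg.PSU 3 F 5), H ≠ ⊤ → 50 ≤ H.index) ∧
      ∃ H : Subgroup (Cfsg.PSU 3 F 5), H.index = 50 := by
  classical
  have := charP_five (F := F) (by rw [hF]; norm_num)
  obtain ⟨ω, hω⟩ := exists_omega (F := F) (by rw [hF]; norm_num)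
  obtain ⟨hI, hA, hB, hP, hU, hV⟩ := gens_ok
  obtain ⟨e1, he1⟩ := exists_su hω hF hI
  obtain ⟨ga, hga⟩ := exists_su hω hF hA
  obtain ⟨gb, hgb⟩ := exists_su hω hF hB
  obtain ⟨gp, hgp⟩ := exists_su hω hF hP
  obtain ⟨gu, hgu⟩ := exists_su hω hF hU
  obtain ⟨gv, hgv⟩ := exists_su hω hF hV
  let π := QuotientGroup.mk' (Subgroup.center (Cfsg.SU 3 F 5))
  obtain ⟨B, hfin, hmk, hcard, hΩ, htr, huniq, hinv⟩ := exists_upoints hF
  have hsimple : IsSimpleGroup (Cfsg.PSU 3 F 5) :=
    psu_isSimpleGroup hF (by norm_num) (by norm_num)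
  -- two non-commuting unipotents with a common fixed point
  have hnab : ∃ (u : IsoPt F) (x y : Cfsg.PSU 3 F 5), x • u = u ∧ y • u = u ∧ x ^ 125 = 1 ∧ y ^ 125 = 1 ∧
      x * y ≠ y * x := by
    obtain ⟨hfix, hiso, hA5, hB5, hne⟩ := unip_ok
    simp only [List.all_eq_true, List.mem_range, Bool.and_eq_true, beq_iff_eq] at hfix
    set u := vec ω unipPoint
    have hu : 𝕙 u u = 0 := by
      have h := congrArg (em ω) hiso
      simp only [em_fadd, em_fmul hω, em_fconj hω, em_zero] at h
      simpa [u, vec, Cfsg.hermForm, Fin.sum_univ_three] using h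
    have hu0 : u ≠ 0 := fun h => by
      have := congrFun h 0
      exact absurd (em_inj hω (vent_lt _ _) (by norm_num : 0 < 25) (by rw [em_zero]; exact this))
        (by decide +kernel)
    let P : IsoPt F := ⟨Projectivization.mk F u hu0, (iso_of_rep hF hu0).2 hu⟩
    have hfixg : ∀ (g : Cfsg.SU 3 F 5) (c : ℕ), g.1.1 = mat ω c →
        (∀ i < 3, cmulVec c unipPoint i = vent unipPoint i) → π g • P = P := fun g c hg h => by
      rw [QuotientGroup.mk'_apply, hmk]
      refine (mk_smul_eq hF g P hu0 rfl).2 ⟨1, ?_⟩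
      rw [one_smul, hg, mat_mulVec hω]
      funext i
      show em ω _ = em ω _
      rw [h i i.2]
    have hpow : ∀ (g : Cfsg.SU 3 F 5) (c : ℕ), g.1.1 = mat ω c →
        cmul (cmul (cmul (cmul c c) c) c) c = oneCode → π g ^ 125 = 1 := fun g c hg h => by
      have h5 : g ^ 5 = 1 := by
        apply Subtype.ext; apply Subtype.ext
        have := congrArg (mat ω) h
        simp only [mat_cmul hω, mat_oneCode hω, ← hg] at this
        simpa [pow_succ] using this
      rw [← map_pow, show 125 = 5 * 25 from rfl, pow_mul, h5, one_pow, map_one]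
    refine ⟨P, π gu, π gv, hfixg _ _ hgu fun i hi => (hfix i hi).1,
      hfixg _ _ hgv fun i hi => (hfix i hi).2, hpow _ _ hgu hA5, hpow _ _ hgv hB5, fun h => ?_⟩
    rw [← map_mul, ← map_mul] at h
    have := (mk_eq_iff hω hF (a := cmul unipA unipB) (b := cmul unipB unipA)
      (by rw [mat_cmul hω, ← hgu, ← hgv]; rfl) (by rw [mat_cmul hω, ← hgu, ← hgv]; rfl)).1 h
    rw [hne] at this
    exact Bool.false_ne_true this
  have hlow : ∀ H : Subgroup (Cfsg.PSU 3 F 5), H ≠ ⊤ → 50 ≤ H.index := fun H hH =>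
    UPoints.index_ge (Ω := IsoPt F) ⟨hcard, hsimple, hΩ, htr, huniq, hinv, hnab⟩ hH
  refine ⟨hlow, ?_⟩
  set H : Subgroup (Cfsg.PSU 3 F 5) := Subgroup.closure {π ga, π gb} with hHdef
  refine ⟨H, ?_⟩
  -- words
  let gen : Bool → Cfsg.SU 3 F 5 := fun k => if k then gb else ga
  have hword : ∀ w : List Bool, (w.foldl (fun g k => g * gen k) e1).1.1 = mat ω (wcode w) ∧
      π (w.foldl (fun g k => g * gen k) e1) ∈ H := by
    intro w
    have he1' : e1 = 1 := by
      apply Subtype.ext; apply Subtype.ext; rw [he1, mat_oneCode hω]; rfl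
    suffices ∀ (g : Cfsg.SU 3 F 5) (c : ℕ), g.1.1 = mat ω c → π g ∈ H →
        (w.foldl (fun g k => g * gen k) g).1.1 = mat ω (w.foldl (fun c k => cmul c (if k then genB else genA)) c) ∧
          π (w.foldl (fun g k => g * gen k) g) ∈ H from
      this e1 oneCode he1 (by rw [he1', map_one]; exact H.one_mem)
    induction w with
    | nil => exact fun g c hg hm => ⟨hg, hm⟩
    | cons k w ih =>
      intro g c hg hm
      rw [List.foldl_cons, List.foldl_cons]
      refine ih (g * gen k) (cmul c (if k then genB else genA)) ?_ ?_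
      · rw [mat_cmul hω]
        show g.1.1 * (gen k).1.1 = _
        rw [hg]
        cases k
        · exact congrArg _ hga
        · exact congrArg _ hgb
      · rw [map_mul]
        refine H.mul_mem hm (Subgroup.subset_closure ?_)
        cases k
        · exact Or.inl rfl
        · exact Or.inr rfl
  have hdvd : ∀ ws : List (List Bool), groupOk (ws.map wcode) = true → [] ∈ ws →
      ws.length ∣ Nat.card H := by
    intro ws hok hnil
    simp only [groupOk, Bool.and_eq_true, List.all_eq_true, List.any_eq_true, List.mem_map,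
      forall_exists_index, and_imp, forall_apply_eq_imp_iff₂, List.mem_range, List.length_map,
      Bool.not_eq_true'] at hok
    obtain ⟨hclosed, hdist⟩ := hok
    let f : List Bool → Cfsg.PSU 3 F 5 := fun w => π (w.foldl (fun g k => g * gen k) e1)
    let e : Fin ws.length → Cfsg.PSU 3 F 5 := fun i => f ws[i]
    have hinj : Function.Injective e := by
      intro i j hij
      by_contra hne
      have key : ∀ i j : Fin ws.length, (j : ℕ) < i → e i ≠ e j := fun i j hlt h => by
        have h1 := hdist i i.2 j hlt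
        have h2 := (mk_eq_iff hω hF (hword ws[i]).1 (hword ws[j]).1).1 h
        simp only [List.getD_eq_getElem?_getD, List.getElem?_map, List.getElem?_eq_getElem i.2,
          List.getElem?_eq_getElem j.2, Option.map_some, Option.getD_some] at h1
        rw [Fin.getElem_fin, Fin.getElem_fin, h1] at h2
        exact Bool.false_ne_true h2
      rcases lt_trichotomy (i : ℕ) j with h | h | h
      · exact key j i h hij.symm
      · exact hne (Fin.ext h)
      · exact key i j h hij
    have hc : (Set.range e).ncard = ws.length := by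
      rw [← Nat.card_coe_set_eq, Nat.card_range_of_injective hinj, Nat.card_fin]
    rw [← hc]
    refine dvd_card_of_closed H _ (Set.range_subset_iff.2 fun i => (hword _).2) ?_ ?_
    · obtain ⟨i, hi, hie⟩ := List.getElem_of_mem hnil
      refine ⟨⟨i, hi⟩, ?_⟩
      show f ws[i] = 1
      rw [hie]
      show π e1 = 1
      have he1' : e1 = 1 := by
        apply Subtype.ext; apply Subtype.ext; rw [he1, mat_oneCode hω]; rfl
      rw [he1', map_one]
    · rintro _ ⟨i, rfl⟩ _ ⟨j, rfl⟩
      obtain ⟨_, ⟨w, hw, rfl⟩, hwe⟩ := hclosed _ (List.getElem_mem i.2) _ (List.getElem_mem j.2)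
      obtain ⟨k, hk, hke⟩ := List.getElem_of_mem hw
      refine ⟨⟨k, hk⟩, ?_⟩
      show f ws[k] = f ws[i] * f ws[j]
      rw [hke, eq_comm, ← map_mul]
      refine (mk_eq_iff hω hF ?_ (hword w).1).2 hwe
      rw [mat_cmul hω, Fin.getElem_fin, Fin.getElem_fin, ← (hword _).1, ← (hword _).1]
      rfl
  -- `H` is proper
  have hne : H ≠ ⊤ := by
    let M : Submonoid (Cfsg.SU 3 F 5) :=
      { carrier := {g | ∀ v ∈ pointSet, ∃ w ∈ pointSet, ∃ c : F, g.1.1 *ᵥ vec ω v = c • vec ω w}
        one_mem' := fun v hv => ⟨v, hv, 1, by rw [SU_one_mulVec, one_smul]⟩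
        mul_mem' := fun {g k} hg hk v hv => by
          obtain ⟨w, hw, c, hc⟩ := hk v hv
          obtain ⟨z, hz, d, hd⟩ := hg w hw
          exact ⟨z, hz, c * d, by rw [SU_mul_mulVec, hc, Matrix.mulVec_smul, hd, smul_smul]⟩ }
    let K : Subgroup (Cfsg.SU 3 F 5) :=
      { M with
        inv_mem' := fun {a} ha => by
          have : a⁻¹ = a ^ (orderOf a - 1) := by
            rw [inv_eq_iff_mul_eq_one, ← pow_succ', Nat.sub_add_cancel (orderOf_pos a), pow_orderOf_eq_one]
          rw [this]; exact M.pow_mem ha _ }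
    have hgen : ∀ (g : Cfsg.SU 3 F 5) (c : ℕ) (img : List ℕ), g.1.1 = mat ω c →
        ((pointSet.zip img).all fun p => imageOk c p.1 p.2) = true ∧
          (img.all fun t => t % 25 != 0 && decide (t / 25 < pointSet.length)) = true ∧
            img.length = pointSet.length → g ∈ K := by
      rintro g c img hg ⟨h1, h2, h3⟩
      intro v hv
      obtain ⟨i, hi, rfl⟩ := List.getElem_of_mem hv
      have hi' : i < img.length := h3 ▸ hi
      have hmem : (pointSet[i], img[i]) ∈ pointSet.zip img := by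
        have : i < (pointSet.zip img).length := by rw [List.length_zip, h3, min_self]; exact hi
        rw [show (pointSet[i], img[i]) = (pointSet.zip img)[i] from List.getElem_zip.symm]
        exact List.getElem_mem this
      have e1 := List.all_eq_true.1 h1 _ hmem
      have e2 := List.all_eq_true.1 h2 _ (List.getElem_mem hi')
      simp only [Bool.and_eq_true, decide_eq_true_eq] at e2
      simp only [imageOk, List.all_eq_true, List.mem_range, beq_iff_eq, List.getD_eq_getElem?_getD,
        List.getElem?_eq_getElem e2.2, Option.getD_some] at e1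
      refine ⟨_, List.getElem_mem e2.2, em ω (img[i] % 25), ?_⟩
      rw [hg, mat_mulVec hω]
      funext k
      show em ω _ = em ω _ * em ω _
      rw [e1 k k.2, em_fmul hω]
    have hle : H ≤ K.map π := by
      rw [hHdef, Subgroup.closure_le]
      rintro _ (rfl | rfl)
      · exact ⟨ga, hgen ga genA imageA hga imageA_ok, rfl⟩
      · exact ⟨gb, hgen gb genB imageB hgb imageB_ok, rfl⟩
    intro htop
    obtain ⟨k, hk, hke⟩ := hle (htop ▸ Subgroup.mem_top (π gp))
    have hz := center_SU_scalar hF ⟨gp⁻¹ * k, QuotientGroup.eq.1 hke.symm⟩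
    have hv0 : pointSet.getD 0 0 ∈ pointSet := by decide +kernel
    obtain ⟨w, hw, c, hc⟩ := hk _ hv0
    set v := pointSet.getD 0 0 with hv
    set z := gp⁻¹ * k
    have hzv : z.1.1 *ᵥ vec ω v = z.1.1 0 0 • vec ω v := by
      funext i
      rw [Matrix.mulVec, dotProduct, Finset.sum_eq_single i, Pi.smul_apply, smul_eq_mul, (hz i 0).2]
      · intro j _ hj; rw [(hz i j).1 (Ne.symm hj), zero_mul]
      · simp
    have hkv : k.1.1 *ᵥ vec ω v = z.1.1 0 0 • (gp.1.1 *ᵥ vec ω v) := by
      rw [show k = gp * z by rw [mul_inv_cancel_left], SU_mul_mulVec, hzv, Matrix.mulVec_smul]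
    have hz0 : z.1.1 0 0 ≠ 0 := fun h0 => by
      have h1 := z.1.2
      rw [Matrix.det_fin_three, (hz 0 1).1 (by decide), (hz 0 2).1 (by decide), (hz 1 1).2,
        ← (hz 0 1).2, h0] at h1
      simp at h1
    rw [hkv] at hc
    obtain ⟨e, he, hee⟩ := em_surj hω hF ((z.1.1 0 0)⁻¹ * c)
    have hperm := List.all_eq_true.1 perm_moves w hw
    simp only [List.all_eq_true, List.any_eq_true, List.mem_range, bne_iff_ne] at hperm
    obtain ⟨i, hi, hne⟩ := hperm e he
    refine hne (em_inj hω (cmulVec_lt _ _ _) (fmul_lt _ _) ?_)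
    have h := congrFun (congrArg (fun u => (z.1.1 0 0)⁻¹ • u) hc) ⟨i, hi⟩
    simp only [smul_smul, inv_mul_cancel₀ hz0, one_smul] at h
    rw [hgp, mat_mulVec hω, ← hee] at h
    rw [em_fmul hω]
    exact h
  -- the order
  obtain ⟨h5, h7, h8, h9⟩ := groups_ok
  have d5 : 5 ∣ Nat.card H := hdvd wordsFive h5 (by decide)
  have d7 : 7 ∣ Nat.card H := hdvd wordsSeven h7 (by decide)
  have d8 : 8 ∣ Nat.card H := hdvd wordsEight h8 (by decide)
  have d9 : 9 ∣ Nat.card H := hdvd wordsNine h9 (by decide)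
  have hge := hlow H hne
  have hmul : Nat.card H * H.index = 126000 := by rw [H.card_mul_index, hcard]
  have hd : 2520 ∣ Nat.card H := by
    have h1 : Nat.lcm (Nat.lcm 5 7) (Nat.lcm 8 9) ∣ Nat.card H :=
      Nat.lcm_dvd (Nat.lcm_dvd d5 d7) (Nat.lcm_dvd d8 d9)
    exact h1
  obtain ⟨t, ht⟩ := hd
  rw [ht, mul_assoc] at hmul
  have ht2 : t * H.index = 50 := by omega
  have ht0 : t ≠ 0 := by rintro rfl; simp at ht2
  have := Nat.le_mul_of_pos_left H.index (Nat.pos_of_ne_zero ht0)
  omega

end CfsgLib.KnownSimple.UThreeFive
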